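import Cfsg.Prelude.Def_LocalEven
import Mathlib.GroupTheory.Sylow
import Mathlib.Algebra.Group.Hom.Instances

/-!
# Offenders in additive form, and quadratic replacement

`G` acts through `act : G →* AddMonoid.End V`; `offM act B = |B| |C_V(B)|`.

* `fixS`, `stabP`, `stabF`, `restrict`
* `exists_quad`: the replacement
* `offender_lt_of_star`: groups satisfying `Star` have no offenders on modules generated by Sylow fixed points
-/

set_option autoImplicit false

namespace CfsgLib.PGroups.SFree

open Subgroup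

universe u v

variable {H : Type u} [Group H] {V : Type v} [AddCommGroup V] (act : H →* AddMonoid.End V)

theorem act_mul (g h : H) (x : V) : act (g * h) x = act g (act h x) := by rw [map_mul]; rfl

theorem act_one (x : V) : act 1 x = x := by rw [map_one]; rfl

theorem act_inv (g : H) (x : V) : act g⁻¹ (act g x) = x := by rw [← act_mul, inv_mul_cancel, act_one]

theorem act_inv' (g : H) (x : V) : act g (act g⁻¹ x) = x := by rw [← act_mul, mul_inv_cancel, act_one]

theorem act_injective (g : H) : Function.Injective (act g) := fun x y h => by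
  rw [← act_inv act g x, h, act_inv]

/-- The common fixed points of a subgroup. -/
def fixS (S : Subgroup H) : AddSubgroup V where
  carrier := {x | ∀ a ∈ S, act a x = x}
  zero_mem' := fun _ _ => map_zero _
  add_mem' := fun {x y} hx hy a ha => by rw [map_add, hx a ha, hy a ha]
  neg_mem' := fun {x} hx a ha => by rw [map_neg, hx a ha]

theorem fixS_anti {S T : Subgroup H} (h : S ≤ T) : fixS act T ≤ fixS act S := fun _ hx a ha => hx a (h ha)

/-- The stabiliser of a vector. -/
def stabP (x : V) : Subgroup H where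
  carrier := {g | act g x = x}
  one_mem' := act_one act x
  mul_mem' := fun {g h} hg hh => by show act (g * h) x = x; rw [act_mul, hh, hg]
  inv_mem' := fun {g} hg => by show act g⁻¹ x = x; nth_rewrite 1 [← (hg : act g x = x)]; rw [act_inv]

/-- The pointwise stabiliser of a set of vectors. -/
def stabF (Y : AddSubgroup V) : Subgroup H where
  carrier := {g | ∀ y ∈ Y, act g y = y}
  one_mem' := fun y _ => act_one act y
  mul_mem' := fun {g h} hg hh y hy => by rw [act_mul, hh y hy, hg y hy]
  inv_mem' := fun {g} hg y hy => by nth_rewrite 1 [← hg y hy]; rw [act_inv]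

/-- The setwise stabiliser of a subgroup of vectors. -/
def stabY [Finite V] (Y : AddSubgroup V) : Subgroup H where
  carrier := {g | ∀ y ∈ Y, act g y ∈ Y}
  one_mem' := fun y hy => by rw [act_one]; exact hy
  mul_mem' := fun {g h} hg hh y hy => by rw [act_mul]; exact hg _ (hh y hy)
  inv_mem' := fun {g} hg y hy => by
    obtain ⟨⟨w, hw⟩, hwu⟩ := Finite.injective_iff_surjective.1
      (show Function.Injective (fun x : Y => (⟨act g x, hg x x.2⟩ : Y)) from fun x x' h =>
        Subtype.ext (act_injective act g (congrArg Subtype.val h))) ⟨y, hy⟩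
    have e : act g w = y := congrArg Subtype.val hwu
    rw [← e, act_inv]
    exact hw

/-- The action of a subgroup on an invariant subgroup of vectors. -/
def restrict (N : Subgroup H) (Y : AddSubgroup V) (h : ∀ g ∈ N, ∀ y ∈ Y, act g y ∈ Y) :
    N →* AddMonoid.End Y where
  toFun g :=
    { toFun := fun y => ⟨act (g : H) (y : V), h g g.2 y y.2⟩
      map_zero' := Subtype.ext (map_zero _)
      map_add' := fun y z => Subtype.ext (map_add _ _ _) }
  map_one' := AddMonoidHom.ext fun y => Subtype.ext (act_one act (y : V))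
  map_mul' g k := AddMonoidHom.ext fun y => Subtype.ext (act_mul act (g : H) k (y : V))

theorem restrict_apply (N : Subgroup H) (Y : AddSubgroup V) (h : ∀ g ∈ N, ∀ y ∈ Y, act g y ∈ Y) (g : N) (y : Y) :
    (restrict act N Y h g y : V) = act g y := rfl

/-- `|B| |C_V(B)|` -/
noncomputable def offM (B : Subgroup H) : ℕ := Nat.card B * Nat.card (fixS act B)

/-- quadratic action -/
def Quad (B : Subgroup H) : Prop := ∀ b ∈ B, ∀ x, act b x - x ∈ fixS act B

variable {act}

theorem Quad.add {B : Subgroup H} (hB : Quad act B) {a b : H} (ha : a ∈ B) (hb : b ∈ B) (x : V) :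
    act (a * b) x - x = (act a x - x) + (act b x - x) := by
  have h := hB b hb x a ha
  rw [map_sub, sub_eq_iff_eq_add] at h
  rw [act_mul, h]
  abel

/-- Replacement: a subgroup with commuting action at least as good as everything inside and moving some vector contains
a quadratic one. -/
theorem exists_quad [Finite H] [Finite V] (h2 : ∀ x : V, x + x = 0) {B : Subgroup H}
    (hcomm : ∀ a ∈ B, ∀ b ∈ B, ∀ x, act a (act b x) = act b (act a x))
    (hmove : ∃ b ∈ B, ∃ x, act b x ≠ x) (hmax : ∀ B' ≤ B, offM act B' ≤ offM act B) :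
    ∃ B' ≤ B, Quad act B' ∧ (∀ B'' ≤ B', offM act B'' ≤ offM act B') ∧ ∃ b ∈ B', ∃ x, act b x ≠ x := by
  obtain ⟨B', hB'B, hmin⟩ := Finite.exists_le_minimal
    (p := fun X : Subgroup H => X ≤ B ∧ (∃ b ∈ X, ∃ x, act b x ≠ x) ∧ offM act B ≤ offM act X) (a := B)
    ⟨le_rfl, hmove, le_rfl⟩
  obtain ⟨-, hmove', hle⟩ := hmin.1
  refine ⟨B', hB'B, ?_, fun B'' h => (hmax B'' (h.trans hB'B)).trans hle, hmove'⟩
  intro b hb x
  let B₁ : Subgroup H := B' ⊓ ⨅ c : B', stabP act (act (c : H) x - x)
  suffices h1 : B₁ = B' by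
    intro a ha
    have : a ∈ B₁ := h1.ge ha
    exact (Subgroup.mem_iInf.1 (Subgroup.mem_inf.1 this).2 ⟨b, hb⟩ :)
  have hB₁ : B₁ ≤ B' := inf_le_left
  have hfix₁ : ∀ c ∈ B', act c x - x ∈ fixS act B₁ := fun c hc a ha =>
    (Subgroup.mem_iInf.1 (Subgroup.mem_inf.1 ha).2 ⟨c, hc⟩ :)
  -- the cosets of `B₁` give independent vectors modulo the fixed points
  let k : (B' ⧸ B₁.subgroupOf B') × fixS act B' → fixS act B₁ := fun q =>
    ⟨(act (q.1.out : H) x - x) + q.2, add_mem (hfix₁ _ q.1.out.2) (fixS_anti act hB₁ q.2.2)⟩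
  have hkey : ∀ c ∈ B', ∀ d ∈ B', act c x - act d x ∈ fixS act B' → c⁻¹ * d ∈ B₁ := by
    intro c hc d hd hf
    have he : act (c⁻¹ * d) x - x ∈ fixS act B' := by
      have h := hf c⁻¹ (inv_mem hc)
      rw [map_sub, act_inv, ← act_mul] at h
      rw [← neg_sub, h]
      exact neg_mem hf
    refine Subgroup.mem_inf.2 ⟨mul_mem (inv_mem hc) hd, Subgroup.mem_iInf.2 fun e => ?_⟩
    have hm : c⁻¹ * d ∈ B := hB'B (mul_mem (inv_mem hc) hd)
    have h := he e e.2
    rw [map_sub, hcomm e (hB'B e.2) _ hm] at h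
    show act (c⁻¹ * d) (act (e : H) x - x) = act (e : H) x - x
    rw [map_sub]
    exact sub_eq_sub_iff_sub_eq_sub.1 h
  have hk : Function.Injective k := by
    rintro ⟨q, u⟩ ⟨q', u'⟩ h
    have h' : (act (q.out : H) x - x) + u = (act (q'.out : H) x - x) + u' := congrArg Subtype.val h
    have hmem : act (q.out : H) x - act (q'.out : H) x ∈ fixS act B' := by
      rw [show act (q.out : H) x - act (q'.out : H) x = (u' : V) - u by
        calc _ = ((act (q.out : H) x - x) + u) - ((act (q'.out : H) x - x) + u') + ((u' : V) - u) := by abel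
          _ = _ := by rw [h', sub_self, zero_add]]
      exact sub_mem u'.2 u.2
    have hq : q = q' := by
      rw [← QuotientGroup.out_eq' q, ← QuotientGroup.out_eq' q', QuotientGroup.eq]
      exact hkey _ q.out.2 _ q'.out.2 hmem
    subst hq
    exact Prod.ext rfl (Subtype.ext (add_left_cancel h'))
  have hcard : Nat.card B' = Nat.card (B' ⧸ B₁.subgroupOf B') * Nat.card B₁ := by
    rw [Subgroup.card_eq_card_quotient_mul_card_subgroup (B₁.subgroupOf B'),
      Nat.card_congr (Subgroup.subgroupOfEquivOfLe hB₁).toEquiv]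
  have hle₁ : offM act B' ≤ offM act B₁ := by
    unfold offM
    rw [hcard, mul_comm (Nat.card (_ ⧸ _)), mul_assoc, ← Nat.card_prod]
    exact Nat.mul_le_mul_left _ (Nat.card_le_card_of_injective k hk)
  by_cases hmove₁ : ∃ c ∈ B₁, ∃ y, act c y ≠ y
  · exact le_antisymm hB₁ (hmin.2 ⟨hB₁.trans hB'B, hmove₁, hle.trans hle₁⟩ hB₁)
  push Not at hmove₁
  -- otherwise the coset vectors and the fixed points cover everything
  have htop : ∀ y : V, y ∈ fixS act B₁ := fun y a ha => hmove₁ a ha y
  let k' : (B' ⧸ B₁.subgroupOf B') × fixS act B' → V := fun q => k q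
  have hle₂ : offM act B₁ ≤ offM act B' := (hmax B₁ (hB₁.trans hB'B)).trans hle
  have hsurj : Function.Surjective k' := by
    have hinj : Function.Injective k' := Subtype.val_injective.comp hk
    haveI := Fintype.ofFinite ((B' ⧸ B₁.subgroupOf B') × fixS act B')
    haveI := Fintype.ofFinite V
    refine ((Fintype.bijective_iff_injective_and_card _).2 ⟨hinj, le_antisymm (Fintype.card_le_of_injective _ hinj) ?_⟩).2
    rw [← Nat.card_eq_fintype_card, ← Nat.card_eq_fintype_card, Nat.card_prod]
    have h1 : Nat.card (fixS act B₁) = Nat.card V :=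
      Nat.card_congr ⟨fun y => y, fun y => ⟨y, htop y⟩, fun _ => rfl, fun _ => rfl⟩
    unfold offM at hle₂
    rw [h1, hcard, mul_comm (Nat.card (_ ⧸ _)), mul_assoc] at hle₂
    exact Nat.le_of_mul_le_mul_left hle₂ Nat.card_pos
  obtain ⟨⟨q, u⟩, hq⟩ := hsurj x
  have hq' : (act (q.out : H) x - x) + (u : V) = x := hq
  have hqx : act (q.out : H) x = -(u : V) := by
    have h3 : act (q.out : H) x = x + x - u := by
      calc act (q.out : H) x = ((act (q.out : H) x - x) + u) + x - u := by abel
        _ = _ := by rw [hq']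
    rw [h3, h2 x, zero_sub]
  have hxf : x ∈ fixS act B' := by
    have : x = act (q.out : H)⁻¹ (-(u : V)) := by rw [← hqx, act_inv]
    rw [this, map_neg, u.2 _ (inv_mem q.out.2)]
    exact neg_mem u.2
  refine le_antisymm hB₁ fun a ha => Subgroup.mem_inf.2 ⟨ha, Subgroup.mem_iInf.2 fun c => ?_⟩
  show act a (act (c : H) x - x) = act (c : H) x - x
  rw [hxf c c.2, sub_self, map_zero]

/-- The statement proved by induction: quadratic best offenders in a Sylow subgroup fix the orbits of the fixed points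
of the Sylow subgroup. -/
def Star (H : Type u) [Group H] (V : Type v) [AddCommGroup V] : Prop :=
  ∀ (act : H →* AddMonoid.End V) (T : Sylow 2 H) (A : Subgroup H), A ≤ T → Quad act A →
    (∀ B ≤ A, offM act B ≤ offM act A) → ∀ x ∈ fixS act (T : Subgroup H), ∀ h : H, ∀ a ∈ A,
      act a (act h x) = act h x

/-- No offenders on modules generated by fixed points of Sylow subgroups. -/
theorem offender_lt_of_star [Finite H] [Finite V] (h2 : ∀ x : V, x + x = 0) (hstar : Star H V)
    (hgen : AddSubgroup.closure (⋃ T : Sylow 2 H, (fixS act (T : Subgroup H) : Set V)) = ⊤)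
    {E : Subgroup H} (hE : IsPGroup 2 E) (hcomm : ∀ a ∈ E, ∀ b ∈ E, ∀ x, act a (act b x) = act b (act a x))
    (hmove : ∃ a ∈ E, ∃ x, act a x ≠ x) :
    Nat.card E * Nat.card (fixS act E) < Nat.card ↥(E ⊓ stabF act ⊤) * Nat.card V := by
  by_contra hcon
  push Not at hcon
  obtain ⟨B, ⟨hBE, hmB⟩, hBmax⟩ := Finset.exists_max_image
    ((Set.toFinite {X : Subgroup H | X ≤ E ∧ ∃ b ∈ X, ∃ x, act b x ≠ x}).toFinset) (offM act)
    ⟨E, by simp [hmove]⟩ |>.imp fun B h => And.intro ((Set.Finite.mem_toFinset _).1 h.1) fun X hX => h.2 X ((Set.Finite.mem_toFinset _).2 hX)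
  have hmax : ∀ B' ≤ B, offM act B' ≤ offM act B := by
    intro B' hB'
    by_cases hm : ∃ b ∈ B', ∃ x, act b x ≠ x
    · exact hBmax B' ⟨hB'.trans hBE, hm⟩
    push Not at hm
    refine le_trans ?_ (hBmax E ⟨le_rfl, hmove⟩)
    refine le_trans (Nat.mul_le_mul ?_ (Nat.card_le_card_of_injective _ Subtype.val_injective)) hcon
    exact Subgroup.card_le_of_le fun a ha => Subgroup.mem_inf.2 ⟨hBE (hB' ha), fun x _ => hm a ha x⟩
  obtain ⟨B', hB'B, hquad, hbest, b, hb, x, hbx⟩ := exists_quad h2
    (fun a ha c hc => hcomm a (hBE ha) c (hBE hc)) hmB hmax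
  haveI : Fact (Nat.Prime 2) := ⟨Nat.prime_two⟩
  obtain ⟨T, hT⟩ := (hE.to_le (hB'B.trans hBE)).exists_le_sylow
  have hle : (⊤ : AddSubgroup V) ≤ fixS act B' := by
    rw [← hgen, AddSubgroup.closure_le]
    intro y hy
    obtain ⟨T', hy⟩ := Set.mem_iUnion.1 hy
    obtain ⟨g, rfl⟩ := MulAction.exists_smul_eq H T T'
    have hy' : act g⁻¹ y ∈ fixS act (T : Subgroup H) := by
      intro t ht
      have h := hy (g * t * g⁻¹) ⟨t, ht, rfl⟩
      rw [act_mul, act_mul] at h
      conv_rhs => rw [← h, act_inv]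
    intro a ha
    have h := hstar act T B' hT hquad hbest _ hy' g a ha
    rwa [act_inv'] at h
  exact hbx (hle (AddSubgroup.mem_top x) b hb)

end CfsgLib.PGroups.SFree
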