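import Cfsg.Agent.Lib.PGroups.SFree.Idem
import Mathlib.Algebra.Module.ZMod
import Mathlib.LinearAlgebra.Dual.Lemmas
import Mathlib.LinearAlgebra.FreeModule.Finite.Matrix
import Mathlib.FieldTheory.Finiteness
import Mathlib.Algebra.Field.ZMod
import Mathlib.Data.ZMod.Basic
import Mathlib.Algebra.Ring.Subring.Basic
import Mathlib.Algebra.Module.Opposite

/-!
# The gain of an invariant pairing

`pairing_gain`: let `L` act on finite elementary 2-groups `W`, `F` with an invariant pairing `W × F → C`, faithful on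
`F`, and let the translates of `P ≤ W` generate `W`. If every subgroup `S` of `F` has strictly larger rank on `P` than
the order of its restriction, and every proper extension of invariant subgroups of `W` multiplies the order by at
least `m`, then `m |F| ≤ |W|`, as long as `F ≠ 1`.
-/

set_option autoImplicit false

namespace CfsgLib.PGroups.SFree

universe u v w

section Card

theorem card_split {W : Type*} [AddCommGroup W] [Finite W] (E : AddMonoid.End W) (hE : ∀ x, E (E x) = E x) :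
    Nat.card W = Nat.card E.range * Nat.card E.ker := by
  rw [AddSubgroup.card_eq_card_quotient_mul_card_addSubgroup E.ker,
    Nat.card_congr (QuotientAddGroup.quotientKerEquivRange E).toEquiv]

theorem ker_eq_range_one_sub {W : Type*} [AddCommGroup W] (E : AddMonoid.End W) (hE : ∀ x, E (E x) = E x) :
    E.ker = (1 - E).range := by
  ext x
  constructor
  · exact fun h => ⟨x, show x - E x = x by rw [show E x = 0 from h, sub_zero]⟩
  · rintro ⟨y, rfl⟩
    show E (y - E y) = 0
    rw [map_sub, hE, sub_self]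

theorem card_dual {X : Type*} [AddCommGroup X] [Finite X] (h2 : ∀ x : X, x + x = 0) :
    Nat.card (X →+ ZMod 2) = Nat.card X := by
  haveI : Fact (Nat.Prime 2) := ⟨Nat.prime_two⟩
  letI : Module (ZMod 2) X := AddCommGroup.zmodModule fun x => by rw [two_nsmul]; exact h2 x
  rw [Nat.card_congr (AddMonoidHom.toZModLinearMapEquiv 2).toEquiv,
    Module.natCard_eq_pow_finrank (K := ZMod 2) (V := X →ₗ[ZMod 2] ZMod 2),
    Module.natCard_eq_pow_finrank (K := ZMod 2) (V := X)]
  exact congrArg _ Subspace.dual_finrank_eq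

end Card

variable {L : Type u} [Group L] {W : Type v} [AddCommGroup W] {F : Type w} [AddCommGroup F]
  {C : Type*} [AddCommGroup C] (ρW : L →* AddMonoid.End W) (ρF : L →* AddMonoid.End F) (φ : W →+ F →+ C)

/-- the adjoint pairs generated by the group -/
def adjRing : Subring (AddMonoid.End W × (AddMonoid.End F)ᵐᵒᵖ) :=
  Subring.closure (Set.range fun l => (ρW l, MulOpposite.op (ρF l⁻¹)))

theorem adjRing_adj (inv : ∀ l w f, φ (ρW l w) (ρF l f) = φ w f) {r : AddMonoid.End W × (AddMonoid.End F)ᵐᵒᵖ}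
    (hr : r ∈ adjRing ρW ρF) (w : W) (f : F) : φ (r.1 w) f = φ w (r.2.unop f) := by
  induction hr using Subring.closure_induction generalizing w f with
  | mem x hx =>
    obtain ⟨l, rfl⟩ := hx
    rw [← inv l⁻¹ (ρW l w) f]
    congr 1
    show φ ((ρW l⁻¹ * ρW l) w) = φ w
    rw [← map_mul, inv_mul_cancel, map_one]
    rfl
  | zero => simp
  | one => simp
  | add a b _ _ ha hb =>
    show φ (a.1 w + b.1 w) f = φ w (a.2.unop f + b.2.unop f)
    rw [map_add, map_add, AddMonoidHom.add_apply, ha, hb]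
  | neg a _ ha =>
    show φ (-(a.1 w)) f = φ w (-(a.2.unop f))
    rw [map_neg, map_neg, AddMonoidHom.neg_apply, ha]
  | mul a b _ _ ha hb =>
    show φ (a.1 (b.1 w)) f = φ w (b.2.unop (a.2.unop f))
    rw [ha, hb]

section Flag

variable [Finite W] [Finite F]

variable {ρW ρF φ}

theorem flag_le (inv : ∀ l w f, φ (ρW l w) (ρF l f) = φ w f) (nd : ∀ f, (∀ w, φ w f = 0) → f = 0)
    {P : AddSubgroup W} (gen : AddSubgroup.closure {w | ∃ l : L, ∃ p ∈ P, ρW l p = w} = ⊤)
    (strict : ∀ S a b : AddSubgroup _, (∀ p, p ∈ a ↔ p ∈ P ∧ ∀ s ∈ S, φ p s = 0) →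
      (∀ s, s ∈ b ↔ s ∈ S ∧ ∀ p ∈ P, φ p s = 0) → b ≠ S → Nat.card S * Nat.card a < Nat.card b * Nat.card P)
    [Finite L] (E : AddMonoid.End W) (E' : AddMonoid.End F) (hadj : ∀ w f, φ (E w) f = φ w (E' f))
    (hE' : ∀ f, E' (E' f) = E' f) :
    Nat.card E'.range ≤ Nat.card E.range ∧ (E'.range ≠ ⊥ → Nat.card E'.range < Nat.card E.range) := by
  have main : ∀ s : Finset L, ∃ Wl : AddSubgroup W, ∃ K : AddSubgroup F, Wl ≤ E.range ∧
      (∀ f, f ∈ K ↔ f ∈ E'.range ∧ ∀ l ∈ s, ∀ p ∈ P, φ (E (ρW l p)) f = 0) ∧ (∀ w ∈ Wl, ∀ f ∈ K, φ w f = 0) ∧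
      Nat.card E'.range ≤ Nat.card Wl * Nat.card K ∧
      (K ≠ E'.range → Nat.card E'.range < Nat.card Wl * Nat.card K) := by
    classical
    intro s
    induction s using Finset.induction with
    | empty =>
      refine ⟨⊥, E'.range, bot_le, fun f => by simp, fun w hw f _ => ?_, by simp, fun h => absurd rfl h⟩
      rw [AddSubgroup.mem_bot.1 hw, map_zero]; rfl
    | @insert l s hl ih =>
      obtain ⟨Wl, K, hW, hK, hWK, hle, hlt⟩ := ih
      let g : W →+ W := E.comp (ρW l)
      let K' : AddSubgroup F :=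
        { carrier := {f | f ∈ K ∧ ∀ p ∈ P, φ (g p) f = 0}
          zero_mem' := ⟨zero_mem _, fun p _ => map_zero _⟩
          add_mem' := fun {a b} ha hb => ⟨add_mem ha.1 hb.1, fun p hp => by rw [map_add, ha.2 p hp, hb.2 p hp, add_zero]⟩
          neg_mem' := fun {a} ha => ⟨neg_mem ha.1, fun p hp => by rw [map_neg, ha.2 p hp, neg_zero]⟩ }
      have hK'K : K' ≤ K := fun f hf => hf.1
      let S := K.map (ρF l⁻¹)
      let a : AddSubgroup W :=
        { carrier := {p | p ∈ P ∧ ∀ s ∈ S, φ p s = 0}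
          zero_mem' := ⟨zero_mem _, fun s _ => by rw [map_zero]; rfl⟩
          add_mem' := fun {x y} hx hy => ⟨add_mem hx.1 hy.1, fun s hs => by
            rw [map_add, AddMonoidHom.add_apply, hx.2 s hs, hy.2 s hs, add_zero]⟩
          neg_mem' := fun {x} hx => ⟨neg_mem hx.1, fun s hs => by
            rw [map_neg, AddMonoidHom.neg_apply, hx.2 s hs, neg_zero]⟩ }
      have hinj : Function.Injective (ρF l⁻¹) := fun x y h => by
        have := congrArg (ρF l) h
        rwa [← Function.comp_apply (f := ρF l), ← AddMonoid.End.coe_mul, ← Function.comp_apply (f := ρF l),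
          ← AddMonoid.End.coe_mul, ← map_mul, mul_inv_cancel, map_one] at this
      have hval : ∀ f ∈ K, ∀ p, φ (g p) f = φ p (ρF l⁻¹ f) := by
        intro f hf p
        obtain ⟨f0, rfl⟩ := ((hK f).1 hf).1
        show φ (E (ρW l p)) (E' f0) = _
        rw [hadj, hE', ← inv l⁻¹ (ρW l p) (E' f0), ← Function.comp_apply (f := ρW l⁻¹), ← AddMonoid.End.coe_mul,
          ← map_mul, inv_mul_cancel, map_one]
        rfl
      have hb : ∀ s', s' ∈ K'.map (ρF l⁻¹) ↔ s' ∈ S ∧ ∀ p ∈ P, φ p s' = 0 := by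
        intro s'
        constructor
        · rintro ⟨f, hf, rfl⟩
          exact ⟨⟨f, hf.1, rfl⟩, fun p hp => (hval f hf.1 p).symm.trans (hf.2 p hp)⟩
        · rintro ⟨⟨f, hf, rfl⟩, h⟩
          exact ⟨f, ⟨hf, fun p hp => by rw [hval f hf]; exact h p hp⟩, rfl⟩
      have hcS : ∀ T : AddSubgroup F, Nat.card (T.map (ρF l⁻¹)) = Nat.card T := fun T =>
        Nat.card_congr (AddSubgroup.equivMapOfInjective T _ hinj).symm.toEquiv
      have haP : a ≤ P := fun p hp => hp.1
      have hle' : Nat.card K * Nat.card a ≤ Nat.card K' * Nat.card P ∧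
          (K' ≠ K → Nat.card K * Nat.card a < Nat.card K' * Nat.card P) := by
        by_cases hbS : K'.map (ρF l⁻¹) = S
        · have hKK : K' = K := AddSubgroup.map_injective hinj hbS
          refine ⟨?_, fun h => absurd hKK h⟩
          rw [hKK]
          exact Nat.mul_le_mul_left _ (AddSubgroup.card_le_of_le haP)
        · have := strict S a _ (fun p => Iff.rfl) hb hbS
          rw [hcS, hcS] at this
          exact ⟨this.le, fun _ => this⟩
      -- the new part of `W`
      have hga : ∀ p ∈ P, g p ∈ Wl → p ∈ a := fun p hp hgp => ⟨hp, by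
        rintro _ ⟨f, hf, rfl⟩
        exact (hval f hf p).symm.trans (hWK _ hgp f hf)⟩
      have hWl' : Nat.card Wl * Nat.card P ≤ Nat.card ↥(Wl ⊔ P.map g) * Nat.card a := by
        let k : Wl × P →+ ↥(Wl ⊔ P.map g) :=
          { toFun := fun q => ⟨(q.1 : W) + g q.2, AddSubgroup.add_mem_sup q.1.2 ⟨_, q.2.2, rfl⟩⟩
            map_zero' := Subtype.ext (by simp)
            map_add' := fun q r => Subtype.ext (by simp [add_add_add_comm]) }
        rw [← Nat.card_prod, AddSubgroup.card_eq_card_quotient_mul_card_addSubgroup k.ker]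
        refine Nat.mul_le_mul ?_ ?_
        · exact (Nat.card_congr (QuotientAddGroup.quotientKerEquivRange k).toEquiv).trans_le
            (Nat.card_le_card_of_injective _ Subtype.val_injective)
        · refine Nat.card_le_card_of_injective (fun q => (⟨(q.1.2 : W), hga _ q.1.2.2 ?_⟩ : a)) ?_
          · have h : (q.1.1 : W) + g q.1.2 = 0 := congrArg Subtype.val q.2
            rw [eq_neg_of_add_eq_zero_right h]; exact neg_mem q.1.1.2
          · intro q q' h
            have h' : (q.1.2 : W) = q'.1.2 := (congrArg Subtype.val h :)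
            have h1 : (q.1.1 : W) + g q.1.2 = 0 := congrArg Subtype.val q.2
            have h2 : (q'.1.1 : W) + g q'.1.2 = 0 := congrArg Subtype.val q'.2
            rw [h'] at h1
            exact Subtype.ext (Prod.ext (Subtype.ext (add_right_cancel (h1.trans h2.symm))) (Subtype.ext h'))
      refine ⟨Wl ⊔ P.map g, K', sup_le hW ?_, fun f => ?_, ?_, ?_, ?_⟩
      · rintro _ ⟨p, -, rfl⟩; exact ⟨_, rfl⟩
      · show f ∈ K ∧ _ ↔ _
        rw [hK]
        constructor
        · rintro ⟨⟨h1, h2⟩, h3⟩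
          exact ⟨h1, fun j hj => (Finset.mem_insert.1 hj).elim (fun e => e ▸ h3) (h2 j)⟩
        · rintro ⟨h1, h2⟩
          exact ⟨⟨h1, fun j hj => h2 j (Finset.mem_insert_of_mem hj)⟩, h2 l (Finset.mem_insert_self _ _)⟩
      · intro w hw f hf
        obtain ⟨x, hx, _, ⟨p, hp, rfl⟩, rfl⟩ := AddSubgroup.mem_sup.1 hw
        rw [map_add, AddMonoidHom.add_apply, hWK x hx f hf.1, hf.2 p hp, add_zero]
      · refine Nat.le_of_mul_le_mul_right ?_ (Nat.card_pos (α := a))
        calc _ ≤ Nat.card Wl * (Nat.card K * Nat.card a) := by rw [← mul_assoc]; exact Nat.mul_le_mul_right _ hle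
          _ ≤ Nat.card Wl * (Nat.card K' * Nat.card P) := Nat.mul_le_mul_left _ hle'.1
          _ = Nat.card K' * (Nat.card Wl * Nat.card P) := by ring
          _ ≤ Nat.card K' * (Nat.card ↥(Wl ⊔ P.map g) * Nat.card a) := Nat.mul_le_mul_left _ hWl'
          _ = _ := by ring
      · intro hne
        refine Nat.lt_of_mul_lt_mul_right (a := Nat.card a) ?_
        have hfin : Nat.card E'.range * Nat.card a < Nat.card Wl * (Nat.card K' * Nat.card P) := by
          by_cases hKK : K' = K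
          · calc _ < Nat.card Wl * Nat.card K * Nat.card a :=
                  Nat.mul_lt_mul_of_pos_right (hlt (hKK ▸ hne)) Nat.card_pos
              _ ≤ _ := by rw [mul_assoc]; exact Nat.mul_le_mul_left _ hle'.1
          · calc _ ≤ Nat.card Wl * Nat.card K * Nat.card a := Nat.mul_le_mul_right _ hle
              _ < _ := by rw [mul_assoc]; exact Nat.mul_lt_mul_of_pos_left (hle'.2 hKK) Nat.card_pos
        calc _ < _ := hfin
          _ = Nat.card K' * (Nat.card Wl * Nat.card P) := by ring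
          _ ≤ Nat.card K' * (Nat.card ↥(Wl ⊔ P.map g) * Nat.card a) := Nat.mul_le_mul_left _ hWl'
          _ = _ := by ring
  haveI := Fintype.ofFinite L
  obtain ⟨Wl, K, hW, hK, -, hle, hlt⟩ := main Finset.univ
  have hKbot : K = ⊥ := by
    rw [eq_bot_iff]
    intro f hf
    obtain ⟨⟨f0, rfl⟩, h⟩ := (hK f).1 hf
    refine AddSubgroup.mem_bot.2 (nd _ fun w => ?_)
    have hw : w ∈ AddSubgroup.closure {w | ∃ l : L, ∃ p ∈ P, ρW l p = w} := gen ▸ AddSubgroup.mem_top w
    have : w ∈ ((φ.flip) (E' f0)).ker := by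
      refine (AddSubgroup.closure_le _).2 ?_ hw
      rintro _ ⟨l, p, hp, rfl⟩
      show φ (ρW l p) (E' f0) = 0
      exact (congrArg (φ (ρW l p)) (hE' f0)).symm.trans ((hadj _ _).symm.trans (h l (Finset.mem_univ _) p hp))
    exact this
  have h1 : Nat.card K = 1 := by rw [hKbot, AddSubgroup.card_bot]
  rw [h1, mul_one] at hle hlt
  refine ⟨hle.trans (AddSubgroup.card_le_of_le hW), fun hne => ?_⟩
  exact (hlt fun h => hne (h ▸ hKbot)).trans_le (AddSubgroup.card_le_of_le hW)

end Flag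

/-- the module `W × F^*` over the adjoint pairs -/
@[reducible] def pairModule : Module (adjRing ρW ρF) (W × (F →+ ZMod 2)) where
  smul r x := ((r : AddMonoid.End W × (AddMonoid.End F)ᵐᵒᵖ).1 x.1,
    x.2.comp (r : AddMonoid.End W × (AddMonoid.End F)ᵐᵒᵖ).2.unop)
  one_smul x := rfl
  mul_smul r s x := rfl
  smul_zero r := Prod.ext (map_zero _) (AddMonoidHom.zero_comp _)
  smul_add r x y := Prod.ext (map_add _ _ _) (AddMonoidHom.add_comp _ _ _)
  add_smul r s x := Prod.ext rfl (AddMonoidHom.comp_add _ _ _)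
  zero_smul x := Prod.ext rfl (AddMonoidHom.comp_zero _)

variable {ρW ρF φ} [Finite L] [Finite W] [Finite F]

theorem pairing_gain (inv : ∀ l w f, φ (ρW l w) (ρF l f) = φ w f) (nd : ∀ f, (∀ w, φ w f = 0) → f = 0)
    {P : AddSubgroup W} (gen : AddSubgroup.closure {w | ∃ l : L, ∃ p ∈ P, ρW l p = w} = ⊤)
    (strict : ∀ S a b : AddSubgroup _, (∀ p, p ∈ a ↔ p ∈ P ∧ ∀ s ∈ S, φ p s = 0) →
      (∀ s, s ∈ b ↔ s ∈ S ∧ ∀ p ∈ P, φ p s = 0) → b ≠ S → Nat.card S * Nat.card a < Nat.card b * Nat.card P)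
    (h2 : ∀ f : F, f + f = 0) {m : ℕ}
    (hm : ∀ Y Y' : AddSubgroup W, Y < Y' → (∀ (l : L), ∀ y ∈ Y, ρW l y ∈ Y) → (∀ (l : L), ∀ y ∈ Y', ρW l y ∈ Y') →
      m * Nat.card Y ≤ Nat.card Y')
    [Nontrivial F] : m * Nat.card F ≤ Nat.card W := by
  letI := pairModule ρW ρF
  haveI : Finite (F →+ ZMod 2) := Finite.of_injective (β := F → ZMod 2) (fun f => ⇑f) DFunLike.coe_injective
  let R := adjRing ρW ρF
  let Yw : Submodule R (W × (F →+ ZMod 2)) :=
    { carrier := {x | x.2 = 0}
      zero_mem' := rfl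
      add_mem' := fun {x y} hx hy => by
        show x.2 + y.2 = 0
        rw [show x.2 = 0 from hx, show y.2 = 0 from hy, add_zero]
      smul_mem' := fun r x hx => by
        show AddMonoidHom.comp x.2 _ = 0
        exact AddMonoidHom.ext fun f => DFunLike.congr_fun (hx : x.2 = 0) _ }
  let Yf : Submodule R (W × (F →+ ZMod 2)) :=
    { carrier := {x | x.1 = 0}
      zero_mem' := rfl
      add_mem' := fun {x y} hx hy => by
        show x.1 + y.1 = 0
        rw [show x.1 = 0 from hx, show y.1 = 0 from hy, add_zero]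
      smul_mem' := fun r x hx => by
        show (r : AddMonoid.End W × (AddMonoid.End F)ᵐᵒᵖ).1 x.1 = 0
        rw [show x.1 = 0 from hx, map_zero] }
  have hcardF : Nat.card (F →+ ZMod 2) = Nat.card F := card_dual h2
  haveI : Nontrivial (F →+ ZMod 2) := by
    rw [← Finite.one_lt_card_iff_nontrivial, hcardF]
    exact Finite.one_lt_card
  have hYf : Yf ≠ ⊥ := by
    obtain ⟨lam, hlam⟩ := exists_ne (0 : F →+ ZMod 2)
    intro h
    exact hlam (congrArg Prod.snd ((Submodule.mem_bot R).1 (h ▸ (rfl : ((0, lam) : W × _).1 = 0) : ((0, lam) : W × _) ∈ (⊥ : Submodule R _))))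
  haveI : Finite (Submodule R (W × (F →+ ZMod 2))) :=
    Finite.of_injective (fun S : Submodule R _ => (S : Set (W × (F →+ ZMod 2)))) SetLike.coe_injective
  obtain ⟨B, hBYf, hBmin⟩ := Finite.exists_le_minimal (p := fun B : Submodule R _ => B ≠ ⊥) (a := Yf) hYf
  have hcov : (⊥ : Submodule R _) ⋖ B :=
    ⟨bot_lt_iff_ne_bot.2 hBmin.1, fun D hD hD' => hBmin.not_lt (bot_lt_iff_ne_bot.1 hD) hD'⟩
  obtain ⟨⟨⟨Ew, Ef⟩, hr⟩, he, heB, d, hBd, hcovs, hpow⟩ := exists_idem hcov
  obtain ⟨Ef, rfl⟩ : ∃ g, Ef = MulOpposite.op g := ⟨Ef.unop, rfl⟩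
  have hadj := adjRing_adj ρW ρF φ inv hr
  have hEw : ∀ x, Ew (Ew x) = Ew x := fun x => congrArg Prod.fst (he (x, 0))
  have hEf' : ∀ lam : F →+ ZMod 2, (lam.comp Ef).comp Ef = lam.comp Ef := fun lam => congrArg Prod.snd (he (0, lam))
  have hEf : ∀ f, Ef (Ef f) = Ef f := by
    intro f
    by_contra hne
    letI : Module (ZMod 2) F := AddCommGroup.zmodModule fun x => by rw [two_nsmul]; exact h2 x
    haveI : Fact (Nat.Prime 2) := ⟨Nat.prime_two⟩
    obtain ⟨μ, hμ⟩ := not_forall.1 (mt (Module.forall_dual_apply_eq_zero_iff (ZMod 2) _).1 (sub_ne_zero.2 hne))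
    exact hμ (by rw [map_sub, sub_eq_zero]; exact congrFun (congrArg DFunLike.coe (hEf' μ.toAddMonoidHom)) f)
  -- the two fixed spaces
  obtain ⟨a, ha⟩ := hpow Yw
  obtain ⟨b, hb⟩ := hpow Yf
  have hca : Nat.card Ew.range = d ^ a := by
    rw [← ha]
    exact Nat.card_congr
      { toFun := fun x => ⟨((x : W), 0), rfl, Prod.ext (by
          obtain ⟨y, hy⟩ := x.2
          show Ew (x : W) = x
          rw [← hy]; exact hEw y) (AddMonoidHom.zero_comp _)⟩
        invFun := fun x => ⟨x.1.1, ⟨x.1.1, congrArg Prod.fst x.2.2⟩⟩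
        left_inv := fun x => rfl
        right_inv := fun x => Subtype.ext (Prod.ext rfl (x.2.1 : x.1.2 = 0).symm) }
  have hcb : Nat.card Ef.range = d ^ b := by
    rw [← hb, ← card_dual (X := Ef.range) fun x => Subtype.ext (h2 x)]
    exact Nat.card_congr
      { toFun := fun μ => ⟨(0, μ.comp Ef.rangeRestrict), rfl, Prod.ext (map_zero _) (AddMonoidHom.ext fun f => by
          show μ (Ef.rangeRestrict (Ef f)) = μ (Ef.rangeRestrict f)
          congr 1
          exact Subtype.ext (hEf f))⟩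
        invFun := fun x => x.1.2.comp Ef.range.subtype
        left_inv := fun μ => AddMonoidHom.ext fun y => by
          show μ (Ef.rangeRestrict y) = μ y
          congr 1
          obtain ⟨f, hf⟩ := y.2
          refine Subtype.ext ?_
          exact (congrArg Ef hf.symm).trans ((hEf f).trans hf)
        right_inv := fun x => Subtype.ext (Prod.ext (x.2.1 : x.1.1 = 0).symm (AddMonoidHom.ext fun f => by
          show x.1.2 (Ef f) = x.1.2 f
          exact congrArg (fun z : W × (F →+ ZMod 2) => z.2 f) x.2.2)) }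
  have hd1 : 1 < d := by
    haveI : Nontrivial B := Submodule.nontrivial_iff_ne_bot.2 hBmin.1
    have := Finite.one_lt_card (α := B)
    rwa [hBd, show Nat.card (⊥ : Submodule R (W × (F →+ ZMod 2))) = 1 by simp, mul_one] at this
  have hb1 : 1 ≤ b := by
    by_contra hcon
    rw [Nat.lt_one_iff.1 (not_le.1 hcon), pow_zero, Nat.card_eq_one_iff_unique] at hb
    obtain ⟨x, hxB, hx0⟩ := Submodule.exists_mem_ne_zero_of_ne_bot hBmin.1
    have hx : x ∈ fixIn (⟨(Ew, MulOpposite.op Ef), hr⟩ : R) Yf := ⟨hBYf hxB, sub_eq_zero.1 ((Submodule.mem_bot R).1 (heB x hxB))⟩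
    haveI := hb.1
    exact hx0 (congrArg Subtype.val (Subsingleton.elim (⟨x, hx⟩ : fixIn _ Yf) ⟨0, zero_mem _⟩))
  have h1 := flag_le inv nd gen strict Ew Ef hadj hEf
  have h1' := h1.2 fun h => by
    rw [h, AddSubgroup.card_bot] at hcb
    exact absurd hcb (Nat.one_lt_pow (by omega) hd1).ne
  have h0 := flag_le inv nd gen strict (1 - Ew) (1 - Ef) (fun w f => by
    show φ (w - Ew w) f = φ w (f - Ef f)
    rw [map_sub, map_sub, AddMonoidHom.sub_apply, hadj]
    rfl) (fun f => by show (f - Ef f) - Ef (f - Ef f) = f - Ef f; rw [map_sub, hEf, sub_self, sub_zero])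
  rw [hca, hcb] at h1'
  have hba : b < a := (Nat.pow_lt_pow_iff_right hd1).1 h1'
  -- `d` is at least `m`
  have hdm : m ≤ d := by
    obtain ⟨Y', hY'Yw, hY'min⟩ := Finite.exists_le_minimal (p := fun Y : Submodule R (W × (F →+ ZMod 2)) =>
      ∃ x, x ∈ fixIn (⟨(Ew, MulOpposite.op Ef), hr⟩ : R) Y ∧ x ≠ 0) (a := Yw) (by
        have h : 1 < Nat.card (fixIn (⟨(Ew, MulOpposite.op Ef), hr⟩ : R) Yw) := ha ▸ Nat.one_lt_pow (by omega) hd1
        haveI := Finite.one_lt_card_iff_nontrivial.1 h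
        obtain ⟨x, hx⟩ := exists_ne (0 : fixIn (⟨(Ew, MulOpposite.op Ef), hr⟩ : R) Yw)
        exact ⟨x, x.2, fun h => hx (Subtype.ext h)⟩)
    obtain ⟨x, hxY, hx0⟩ := hY'min.1
    obtain ⟨A, hA1, hA2⟩ := Finite.exists_le_maximal (p := fun A : Submodule R (W × (F →+ ZMod 2)) => A < Y') (a := ⊥)
      (bot_lt_iff_ne_bot.2 fun h => hx0 ((Submodule.mem_bot R).1 (h ▸ hxY.1)))
    have hAY : A ⋖ Y' := ⟨hA2.1, fun B hB hB' => hA2.not_gt hB' hB⟩
    rcases hcovs A Y' hAY with h | ⟨-, hc⟩
    · refine absurd ⟨x, ⟨?_, hxY.2⟩, hx0⟩ (hY'min.not_prop_of_lt hAY.lt)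
      exact hxY.2 ▸ h x hxY.1
    · let fst : Submodule R (W × (F →+ ZMod 2)) → AddSubgroup W := fun Y =>
        Y.toAddSubgroup.map (AddMonoidHom.fst W (F →+ ZMod 2))
      have hfst : ∀ Y ≤ Yw, Nat.card (fst Y) = Nat.card Y := fun Y hY => (Nat.card_congr
        (Equiv.ofBijective (fun y : Y => (⟨y.1.1, ⟨y.1, y.2, rfl⟩⟩ : fst Y))
          ⟨fun y z h => Subtype.ext (Prod.ext (congrArg Subtype.val h :) ((hY y.2 : y.1.2 = 0).trans (hY z.2 : z.1.2 = 0).symm)),
            fun ⟨_, y, hy, rfl⟩ => ⟨⟨y, hy⟩, rfl⟩⟩)).symm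
      have hinvY : ∀ Y : Submodule R (W × (F →+ ZMod 2)), ∀ (l : L), ∀ y ∈ fst Y, ρW l y ∈ fst Y := by
        rintro Y l _ ⟨z, hz, rfl⟩
        exact ⟨(⟨_, Subring.subset_closure ⟨l, rfl⟩⟩ : R) • z, Y.smul_mem _ hz, rfl⟩
      have hlt : fst A < fst Y' := by
        refine lt_of_le_of_ne (AddSubgroup.map_mono hAY.le) fun h => ?_
        have := (hfst A (hAY.le.trans hY'Yw)).symm.trans ((congrArg (fun Z : AddSubgroup W => Nat.card Z) h).trans (hfst Y' hY'Yw))
        exact ((Set.toFinite (Y' : Set (W × (F →+ ZMod 2)))).card_lt_card hAY.lt).ne this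
      have := hm _ _ hlt (hinvY A) (hinvY Y')
      rw [hfst A (hAY.le.trans hY'Yw), hfst Y' hY'Yw, hc] at this
      exact Nat.le_of_mul_le_mul_right this Nat.card_pos
  calc m * Nat.card F ≤ d * Nat.card F := Nat.mul_le_mul_right _ hdm
    _ = d * d ^ b * Nat.card (1 - Ef).range := by
      rw [card_split Ef hEf, hcb, ker_eq_range_one_sub Ef hEf, mul_assoc]
    _ ≤ d ^ a * Nat.card (1 - Ew).range := Nat.mul_le_mul (by
      rw [← pow_succ']; exact Nat.pow_le_pow_right (by omega) hba) h0.1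
    _ = _ := by rw [card_split Ew hEw, hca, ker_eq_range_one_sub Ew hEw]

end CfsgLib.PGroups.SFree
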