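import Cfsg.Agent.Lib.PGroups.SFree.Local
import Cfsg.Agent.Lib.PGroups.SFree.Pairing

/-!
# Groups without section `S₃` have no offenders

* `star`: quadratic best offenders of a Sylow `2`-subgroup fix the orbits of its fixed points
* `exists_kernel_offender_lt`: there is a normal subgroup acting as a `2`-group off which every `2`-subgroup with
  commuting action is strictly no offender
-/

set_option autoImplicit false

namespace CfsgLib.PGroups.SFree

open Subgroup

universe u v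

variable {H : Type u} [Group H] {V : Type v} [AddCommGroup V] [Finite H] [Finite V]

namespace Loc

variable (d : Loc H V)

/-- strictness on the label -/
theorem strict_phi (hN : ∀ N : Subgroup H, N ≠ ⊤ → Star ↥N ↥d.Φ) {E : Subgroup H} (hEQ : E ≤ d.Q)
    (hE : IsPGroup 2 E) (hstab : ∀ q ∈ E, ∀ x ∈ d.X, d.act q x - x ∈ d.C)
    (hmove : ∃ q ∈ E, ∃ y ∈ d.Φ, d.act q y ≠ y) :
    Nat.card E * Nat.card ↥(d.Φ ⊓ fixS d.act E) < Nat.card ↥(E ⊓ stabF d.act d.Φ) * Nat.card d.Φ := by
  obtain ⟨N, hNd⟩ : ∃ N, N = stabY d.act d.Φ := ⟨_, rfl⟩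
  have hNtop : N ≠ ⊤ := by
    intro he
    refine d.hne (AddSubgroup.eq_of_le_of_card_ge ?_
      (Nat.card_congr (AddSubgroup.equivMapOfInjective _ _ (act_injective d.act d.l)).toEquiv).le)
    rintro _ ⟨y, hy, rfl⟩
    exact ((hNd ▸ he ▸ mem_top d.l : d.l ∈ stabY d.act d.Φ)) y hy
  have hEN : E ≤ N := fun q hq => hNd ▸ fun y hy => by
    obtain ⟨z, hz, e⟩ := (d.mem_Q.1 (hEQ hq)).2 1 d.L.one_mem y hy
    rw [act_one, act_one] at e
    rw [e]
    exact hz
  obtain ⟨act', hact'⟩ : ∃ act' : N →* AddMonoid.End d.Φ, ∀ (g : N) (y : d.Φ), (act' g y : V) = d.act g y :=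
    ⟨restrict d.act N d.Φ (fun g hg y hy => (hNd ▸ hg : g ∈ stabY d.act d.Φ) y hy), fun g y => rfl⟩
  have hgen : AddSubgroup.closure (⋃ T : Sylow 2 N, (fixS act' (T : Subgroup N) : Set d.Φ)) = ⊤ := by
    obtain ⟨S, hS⟩ : ∃ S, S = AddSubgroup.closure (⋃ T : Sylow 2 N, (fixS act' (T : Subgroup N) : Set d.Φ)) := ⟨_, rfl⟩
    rw [← hS, eq_top_iff]
    have hle : d.Φ ≤ S.map d.Φ.subtype := iSup_le fun T' => fun y hy => by
      have hT'N : ((T' : Sylow 2 H) : Subgroup H) ≤ N := by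
        rw [hNd]
        have := le_stabY_phi d.act d.A (T' : Sylow 2 H)
        rwa [phi_congr d.act T'.2] at this
      have hyΦ : y ∈ d.Φ := (phi_congr d.act T'.2).le (fixS_le_phi d.act d.A (T' : Sylow 2 H) hy)
      exact ⟨⟨y, hyΦ⟩, hS ▸ AddSubgroup.subset_closure (Set.mem_iUnion.2 ⟨(T' : Sylow 2 H).subtype hT'N,
        fun t ht => Subtype.ext ((hact' t _).trans (hy t ht))⟩), rfl⟩
    intro y _
    obtain ⟨z, hz, he⟩ := hle y.2
    exact (Subtype.ext he : z = y) ▸ hz
  have h2' : ∀ y : d.Φ, y + y = 0 := fun y => Subtype.ext (d.h2 _)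
  have key := offender_lt_of_star h2' (hN N hNtop) hgen (E := E.subgroupOf N)
    (hE.comap_subtype) (fun a ha b hb y => by
      apply Subtype.ext
      rw [hact', hact', hact', hact']
      have ha' : d.act (a : H) (y : V) - y ∈ d.C := hstab _ ha _ (d.phi_le_X y.2)
      have hb' : d.act (b : H) (y : V) - y ∈ d.C := hstab _ hb _ (d.phi_le_X y.2)
      have e1 := d.act_C (k := (a : H)) (d.mem_Q.1 (hEQ ha)).1 hb'
      have e2 := d.act_C (k := (b : H)) (d.mem_Q.1 (hEQ hb)).1 ha'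
      rw [map_sub] at e1 e2
      rw [sub_eq_iff_eq_add] at e1 e2
      rw [e1, e2]
      abel)
    (by
      obtain ⟨q, hq, y, hy, hne⟩ := hmove
      exact ⟨⟨q, hEN hq⟩, hq, ⟨y, hy⟩, fun e => hne ((hact' _ _).symm.trans (congrArg Subtype.val e))⟩)
  have hc1 : Nat.card (E.subgroupOf N) = Nat.card E := Nat.card_congr (Subgroup.subgroupOfEquivOfLe hEN).toEquiv
  have hc2 : Nat.card ↥(fixS act' (E.subgroupOf N)) = Nat.card ↥(d.Φ ⊓ fixS d.act E) := Nat.card_congr
    { toFun := fun y => ⟨(y.1 : V), y.1.2, fun q hq => by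
        have h := congrArg Subtype.val (y.2 ⟨q, hEN hq⟩ hq)
        rwa [hact'] at h⟩
      invFun := fun y => ⟨⟨y.1, y.2.1⟩, fun g hg => Subtype.ext ((hact' g _).trans (y.2.2 g hg))⟩
      left_inv := fun y => rfl
      right_inv := fun y => rfl }
  have hc3 : Nat.card ↥(E.subgroupOf N ⊓ stabF act' ⊤) = Nat.card ↥(E ⊓ stabF d.act d.Φ) := Nat.card_congr
    { toFun := fun g => ⟨(g.1 : H), g.2.1, fun y hy => by
        have h := congrArg Subtype.val (g.2.2 ⟨y, hy⟩ (AddSubgroup.mem_top _))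
        rwa [hact'] at h⟩
      invFun := fun g => ⟨⟨g.1, hEN g.2.1⟩, g.2.1, fun y _ => Subtype.ext ((hact' _ y).trans (g.2.2 y y.2))⟩
      left_inv := fun y => rfl
      right_inv := fun y => rfl }
  rwa [hc1, hc2, hc3] at key

/-- the stabiliser of the chain -/
def M₀ : Subgroup H where
  carrier := {q | q ∈ d.Q ∧ ∀ x ∈ d.X, d.act q x - x ∈ d.C}
  one_mem' := ⟨d.Q.one_mem, fun x _ => by rw [act_one, sub_self]; exact zero_mem _⟩
  mul_mem' := fun {p q} hp hq => ⟨d.Q.mul_mem hp.1 hq.1, fun x hx => by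
    have h : d.act (p * q) x - x = (d.act p x - x) + (d.act q x - x) := by
      have hc := d.act_C (d.mem_Q.1 hp.1).1 (hq.2 x hx)
      rw [map_sub, sub_eq_iff_eq_add] at hc
      rw [act_mul, hc]
      abel
    rw [h]
    exact add_mem (hp.2 x hx) (hq.2 x hx)⟩
  inv_mem' := fun {q} hq => ⟨d.Q.inv_mem hq.1, fun x hx => by
    have hc := d.act_C (d.L.inv_mem (d.mem_Q.1 hq.1).1) (hq.2 x hx)
    rw [map_sub, act_inv] at hc
    rw [← neg_sub, hc]
    exact neg_mem (hq.2 x hx)⟩

theorem contradiction (hfree : ¬ Cfsg.Involves (Equiv.Perm (Fin 3)) H)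
    (hN : ∀ N : Subgroup H, N ≠ ⊤ → Star ↥N ↥d.Φ) : False := by
  haveI : Fact (Nat.Prime 2) := ⟨Nat.prime_two⟩
  -- the quotient module
  let W := ↥d.X ⧸ d.C.addSubgroupOf d.X
  let mk : d.X →+ W := QuotientAddGroup.mk' _
  obtain ⟨ρW, hρW⟩ : ∃ ρ : d.L →* AddMonoid.End W, ∀ (k : d.L) (x : d.X),
      ρ k (mk x) = mk ⟨d.act k x, d.inv_X k k.2 x x.2⟩ := by
    refine ⟨{ toFun := fun k => QuotientAddGroup.map _ _ (restrict d.act d.L d.X d.inv_X k) fun c hc => ?_
              map_one' := QuotientAddGroup.addMonoidHom_ext _ (AddMonoidHom.ext fun x =>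
                congrArg QuotientAddGroup.mk (Subtype.ext (act_one d.act (x : V))))
              map_mul' := fun k k' => QuotientAddGroup.addMonoidHom_ext _ (AddMonoidHom.ext fun x =>
                congrArg QuotientAddGroup.mk (Subtype.ext (act_mul d.act (k : H) k' (x : V)))) }, fun k x => rfl⟩
    show d.act k (c : V) ∈ d.C
    have hc' : (c : V) ∈ d.C := hc
    rw [d.act_C k.2 hc']
    exact hc'
  obtain ⟨δ, hδ⟩ : ∃ δ : d.M₀ →* Multiplicative (W →+ d.C), ∀ (q : d.M₀) (x : d.X),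
      ((Multiplicative.toAdd (δ q)) (mk x) : V) = d.act q x - x := by
    let f : d.M₀ → (d.X →+ d.C) := fun q =>
      { toFun := fun x => ⟨d.act q x - x, q.2.2 x x.2⟩
        map_zero' := Subtype.ext (by simp)
        map_add' := fun x y => Subtype.ext (by simp [add_sub_add_comm]) }
    have hf : ∀ q, d.C.addSubgroupOf d.X ≤ (f q).ker := fun q c hc => Subtype.ext (by
      show d.act q (c : V) - c = 0
      have hc' : (c : V) ∈ d.C := hc
      rw [d.act_C (d.mem_Q.1 q.2.1).1 hc', sub_self])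
    refine ⟨{ toFun := fun q => Multiplicative.ofAdd (QuotientAddGroup.lift _ (f q) (hf q))
              map_one' := Multiplicative.toAdd.injective (QuotientAddGroup.addMonoidHom_ext _ (AddMonoidHom.ext fun x =>
                Subtype.ext ((congrArg (· - (x : V)) (act_one d.act (x : V))).trans (sub_self _))))
              map_mul' := fun p q => Multiplicative.toAdd.injective (QuotientAddGroup.addMonoidHom_ext _ (AddMonoidHom.ext fun x =>
                Subtype.ext ?_)) }, fun q x => rfl⟩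
    show d.act ((p : H) * q) x - x = (d.act p x - x) + (d.act q x - x)
    have hc := d.act_C (d.mem_Q.1 p.2.1).1 (q.2.2 x x.2)
    rw [map_sub, sub_eq_iff_eq_add] at hc
    rw [act_mul, hc]
    abel
  let F : AddSubgroup (W →+ d.C) :=
    { carrier := {f | ∃ q, Multiplicative.toAdd (δ q) = f}
      zero_mem' := ⟨1, by rw [map_one]; rfl⟩
      add_mem' := by rintro _ _ ⟨p, rfl⟩ ⟨q, rfl⟩; exact ⟨p * q, by rw [map_mul]; rfl⟩
      neg_mem' := by rintro _ ⟨q, rfl⟩; exact ⟨q⁻¹, by rw [map_inv]; rfl⟩ }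
  have hM₀conj : ∀ {q k : H}, q ∈ d.M₀ → k ∈ d.L → k * q * k⁻¹ ∈ d.M₀ := fun {q k} hq hk =>
    ⟨d.Q_conj hq.1 hk, fun x hx => by
      have h := hq.2 _ (d.inv_X _ (d.L.inv_mem hk) x hx)
      have h' := d.act_C hk h
      rw [map_sub, act_inv', ← act_mul, ← act_mul] at h'
      rw [h']
      exact h⟩
  have hδconj : ∀ (q : d.M₀) (k : d.L) (w : W),
      Multiplicative.toAdd (δ q) (ρW k⁻¹ w) = Multiplicative.toAdd (δ ⟨k * q * k⁻¹, hM₀conj q.2 k.2⟩) w := by
    intro q k w
    obtain ⟨x, rfl⟩ := QuotientAddGroup.mk'_surjective (d.C.addSubgroupOf d.X) w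
    rw [hρW]
    refine Subtype.ext ((hδ q _).trans ?_)
    rw [hδ]
    have hq' := d.inv_X _ (d.L.inv_mem k.2) x x.2
    have h' := d.act_C k.2 (q.2.2 _ hq')
    rw [map_sub, act_inv', ← act_mul, ← act_mul] at h'
    exact h'.symm
  obtain ⟨ρF, hρF⟩ : ∃ ρ : d.L →* AddMonoid.End F, ∀ (k : d.L) (f : F) (w : W),
      (ρ k f : W →+ d.C) w = (f : W →+ d.C) (ρW k⁻¹ w) := by
    refine ⟨{ toFun := fun k =>
                { toFun := fun f => ⟨(f : W →+ d.C).comp (ρW k⁻¹), ?_⟩
                  map_zero' := Subtype.ext (AddMonoidHom.zero_comp _)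
                  map_add' := fun f g => Subtype.ext (AddMonoidHom.add_comp _ _ _) }
              map_one' := AddMonoidHom.ext fun f => Subtype.ext (AddMonoidHom.ext fun w => by
                show (f : W →+ d.C) (ρW 1⁻¹ w) = (f : W →+ d.C) w
                rw [inv_one, map_one]; rfl)
              map_mul' := fun k k' => AddMonoidHom.ext fun f => Subtype.ext (AddMonoidHom.ext fun w => by
                show (f : W →+ d.C) (ρW (k * k')⁻¹ w) = (f : W →+ d.C) (ρW k'⁻¹ (ρW k⁻¹ w))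
                rw [mul_inv_rev, map_mul]; rfl) }, fun k f w => rfl⟩
    obtain ⟨q, hq⟩ := f.2
    exact ⟨⟨k * q * k⁻¹, hM₀conj q.2 k.2⟩, AddMonoidHom.ext fun w => by rw [← hδconj, hq]; rfl⟩
  let φ : W →+ F →+ d.C := F.subtype.flip
  have inv : ∀ k w f, φ (ρW k w) (ρF k f) = φ w f := by
    intro k w f
    show (ρF k f : W →+ d.C) (ρW k w) = (f : W →+ d.C) w
    rw [hρF]
    congr 1
    show (ρW k⁻¹ * ρW k) w = w
    rw [← map_mul, inv_mul_cancel, map_one]
    rfl
  have nd : ∀ f, (∀ w, φ w f = 0) → f = 0 := fun f hf => Subtype.ext (AddMonoidHom.ext hf)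
  let P : AddSubgroup W := (d.Φ.addSubgroupOf d.X).map mk
  have gen : AddSubgroup.closure {w | ∃ k : d.L, ∃ p ∈ P, ρW k p = w} = ⊤ := by
    obtain ⟨S, hS⟩ : ∃ S, S = AddSubgroup.closure {w | ∃ k : d.L, ∃ p ∈ P, ρW k p = w} := ⟨_, rfl⟩
    rw [← hS, eq_top_iff]
    intro w _
    obtain ⟨x, rfl⟩ := QuotientAddGroup.mk'_surjective (d.C.addSubgroupOf d.X) w
    have hle : d.X ≤ (S.comap mk).map d.X.subtype := by
      refine sup_le (iSup_le fun k => ?_) fun c hc => ?_
      · rintro _ ⟨y, hy, rfl⟩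
        refine ⟨⟨_, d.inv_X k k.2 y (d.phi_le_X hy)⟩, ?_, rfl⟩
        show mk _ ∈ S
        rw [← hρW k ⟨y, d.phi_le_X hy⟩, hS]
        exact AddSubgroup.subset_closure ⟨k, _, ⟨⟨y, d.phi_le_X hy⟩, hy, rfl⟩, rfl⟩
      · refine ⟨⟨c, d.C_le_X hc⟩, ?_, rfl⟩
        show mk _ ∈ S
        rw [show mk ⟨c, d.C_le_X hc⟩ = 0 from (QuotientAddGroup.eq_zero_iff _).2 hc]
        exact zero_mem _
    obtain ⟨z, hz, he⟩ := hle x.2
    exact (Subtype.ext he : z = x) ▸ hz
  have strict : ∀ S a b : AddSubgroup _, (∀ p, p ∈ a ↔ p ∈ P ∧ ∀ s ∈ S, φ p s = 0) →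
      (∀ s, s ∈ b ↔ s ∈ S ∧ ∀ p ∈ P, φ p s = 0) → b ≠ S → Nat.card S * Nat.card a < Nat.card b * Nat.card P := by
    intro S a b ha hb hbS
    let δF : d.M₀ →* Multiplicative F :=
      { toFun := fun q => Multiplicative.ofAdd ⟨Multiplicative.toAdd (δ q), q, rfl⟩
        map_one' := congrArg Multiplicative.ofAdd (Subtype.ext (congrArg Multiplicative.toAdd (map_one δ)))
        map_mul' := fun p q => congrArg Multiplicative.ofAdd (Subtype.ext (congrArg Multiplicative.toAdd (map_mul δ p q))) }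
    let E₀ : Subgroup d.M₀ := S.toSubgroup.comap δF
    let f : E₀ →* S.toSubgroup := δF.subgroupComap _
    have hf : Function.Surjective f := fun s => by
      obtain ⟨q, hq⟩ := (Multiplicative.toAdd (s : Multiplicative F)).2
      refine ⟨⟨q, ?_⟩, Subtype.ext (Subtype.ext hq)⟩
      show δF q ∈ S.toSubgroup
      have : δF q = s := Subtype.ext hq
      rw [this]
      exact s.2
    let S₂ : Sylow 2 E₀ := default
    have hSe : IsPGroup 2 S.toSubgroup := fun s => ⟨1, Subtype.ext (Subtype.ext (AddMonoidHom.ext fun w => Subtype.ext (by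
      show ((Multiplicative.toAdd ((s : Multiplicative F) ^ 2) : F) : W →+ d.C) w = ((0 : d.C) : V)
      rw [pow_two]
      exact d.h2 _)))⟩
    have htop : (S₂.mapSurjective hf).toSubgroup = ⊤ :=
      ((S₂.mapSurjective hf).is_maximal' (hSe.to_subgroup ⊤ ) le_top).symm
    let ι : S₂ →* H := d.M₀.subtype.comp (E₀.subtype.comp (S₂ : Subgroup E₀).subtype)
    obtain ⟨E, hE⟩ : ∃ E, E = ι.range := ⟨_, rfl⟩
    have hEM : ∀ q ∈ E, ∃ h : q ∈ d.M₀, δF ⟨q, h⟩ ∈ S.toSubgroup := by
      rw [hE]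
      rintro _ ⟨q, rfl⟩
      exact ⟨(q.1.1 : d.M₀).2, q.1.2⟩
    have hsur : ∀ s ∈ S, ∃ q : H, q ∈ E ∧ ∃ h : q ∈ d.M₀, Multiplicative.toAdd (δF ⟨q, h⟩) = s := by
      intro s hs
      obtain ⟨q, hq, hqs⟩ : (⟨Multiplicative.ofAdd s, hs⟩ : S.toSubgroup) ∈ (S₂.mapSurjective hf).toSubgroup :=
        htop ▸ mem_top _
      exact ⟨ι ⟨q, hq⟩, hE ▸ ⟨_, rfl⟩, q.1.2, congrArg (fun t : S.toSubgroup => Multiplicative.toAdd (t : Multiplicative F)) hqs⟩
    have hval : ∀ (q : d.M₀) (y : V) (hy : y ∈ d.Φ),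
        (φ (mk ⟨y, d.phi_le_X hy⟩) (Multiplicative.toAdd (δF q)) : V) = d.act q y - y := fun q y hy => hδ q _
    have key := d.strict_phi hN (E := E) (fun q hq => (hEM q hq).1.1)
      (hE ▸ IsPGroup.of_surjective S₂.2 ι.rangeRestrict ι.rangeRestrict_surjective)
      (fun q hq => (hEM q hq).1.2) ?_
    · -- transfer the cardinalities
      let g : E →* Multiplicative S :=
        { toFun := fun q => Multiplicative.ofAdd ⟨Multiplicative.toAdd (δF ⟨q, (hEM q q.2).1⟩), (hEM q q.2).2⟩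
          map_one' := congrArg Multiplicative.ofAdd (Subtype.ext (congrArg Multiplicative.toAdd (map_one δF)))
          map_mul' := fun p q => congrArg Multiplicative.ofAdd (Subtype.ext (congrArg Multiplicative.toAdd
            (map_mul δF ⟨p, (hEM p p.2).1⟩ ⟨q, (hEM q q.2).1⟩))) }
      have hg : Function.Surjective g := fun s => by
        obtain ⟨q, hq, h, e⟩ := hsur _ (Multiplicative.toAdd s).2
        exact ⟨⟨q, hq⟩, Subtype.ext e⟩
      have hbS' : b ≤ S := fun s hs => ((hb s).1 hs).1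
      obtain ⟨bS, hbSd⟩ : ∃ bS, bS = (b.addSubgroupOf S).toSubgroup := ⟨_, rfl⟩
      have hEb : Nat.card ↥(E ⊓ stabF d.act d.Φ) = Nat.card b * Nat.card g.ker := by
        have e1 : bS.comap g = (E ⊓ stabF d.act d.Φ).subgroupOf E := by
          ext q
          rw [hbSd]
          show ((Multiplicative.toAdd (g q) : ↥S) : F) ∈ b ↔ _
          rw [hb]
          constructor
          · rintro ⟨-, h⟩
            refine ⟨q.2, fun y hy => sub_eq_zero.1 ?_⟩
            show d.act (q : H) y - y = 0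
            exact (hval ⟨q, (hEM q q.2).1⟩ y hy).symm.trans (congrArg Subtype.val (h _ ⟨⟨y, d.phi_le_X hy⟩, hy, rfl⟩))
          · intro h
            refine ⟨(Multiplicative.toAdd (g q)).2, ?_⟩
            rintro _ ⟨x, hx, rfl⟩
            refine Subtype.ext ((hval ⟨q, (hEM q q.2).1⟩ x hx).trans ?_)
            have hq' : d.act (q : H) (x : V) = x := h.2 x hx
            show d.act (q : H) (x : V) - x = 0
            rw [hq', sub_self]
        rw [← Nat.card_congr (Subgroup.subgroupOfEquivOfLe (inf_le_left : E ⊓ stabF d.act d.Φ ≤ E)).toEquiv, ← e1,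
          Subgroup.card_eq_card_quotient_mul_card_subgroup (g.ker.subgroupOf (bS.comap g)),
          Nat.card_congr (Subgroup.subgroupOfEquivOfLe (MonoidHom.ker_le_comap g bS)).toEquiv]
        congr 1
        have e2 : g.ker.subgroupOf (bS.comap g) = (g.subgroupComap bS).ker := by
          ext x
          exact ⟨fun h => Subtype.ext h, fun h => congrArg Subtype.val h⟩
        rw [e2, Nat.card_congr (QuotientGroup.quotientKerEquivOfSurjective _
          (MonoidHom.subgroupComap_surjective_of_surjective g bS hg)).toEquiv, hbSd]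
        exact Nat.card_congr (AddSubgroup.addSubgroupOfEquivOfLe hbS').toEquiv
      have hEcard : Nat.card E = Nat.card S * Nat.card g.ker := by
        rw [Subgroup.card_eq_card_quotient_mul_card_subgroup g.ker,
          Nat.card_congr (QuotientGroup.quotientKerEquivOfSurjective g hg).toEquiv]
        rfl
      let π : d.Φ →+ P :=
        { toFun := fun y => ⟨mk ⟨y, d.phi_le_X y.2⟩, ⟨⟨y, d.phi_le_X y.2⟩, y.2, rfl⟩⟩
          map_zero' := Subtype.ext (map_zero mk)
          map_add' := fun y z => Subtype.ext (map_add mk ⟨y, d.phi_le_X y.2⟩ ⟨z, d.phi_le_X z.2⟩) }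
      have hπ : Function.Surjective π := fun p => by
        obtain ⟨⟨y, hy1⟩, hy, e⟩ := p.2
        exact ⟨⟨y, hy⟩, Subtype.ext e⟩
      have haP : a ≤ P := fun p hp => ((ha p).1 hp).1
      have hPa : Nat.card ↥(d.Φ ⊓ fixS d.act E) = Nat.card a * Nat.card π.ker := by
        have e1 : (a.addSubgroupOf P).comap π = (d.Φ ⊓ fixS d.act E).addSubgroupOf d.Φ := by
          ext y
          show (π y : W) ∈ a ↔ _
          rw [ha]
          constructor
          · rintro ⟨-, h⟩
            refine ⟨y.2, fun q hq => sub_eq_zero.1 ?_⟩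
            show d.act q (y : V) - y = 0
            exact (hval ⟨q, (hEM q hq).1⟩ y y.2).symm.trans (congrArg Subtype.val (h _ (hEM q hq).2))
          · intro h
            refine ⟨(π y).2, fun s hs => ?_⟩
            obtain ⟨q, hq, hqM, rfl⟩ := hsur s hs
            refine Subtype.ext ((hval ⟨q, hqM⟩ y y.2).trans ?_)
            have hq' : d.act q (y : V) = y := h.2 q hq
            show d.act q (y : V) - y = 0
            rw [hq', sub_self]
        rw [← Nat.card_congr (AddSubgroup.addSubgroupOfEquivOfLe (inf_le_left : d.Φ ⊓ fixS d.act E ≤ d.Φ)).toEquiv, ← e1,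
          AddSubgroup.card_eq_card_quotient_mul_card_addSubgroup (π.ker.addSubgroupOf ((a.addSubgroupOf P).comap π)),
          Nat.card_congr (AddSubgroup.addSubgroupOfEquivOfLe (AddMonoidHom.ker_le_comap π _)).toEquiv]
        congr 1
        have e2 : π.ker.addSubgroupOf ((a.addSubgroupOf P).comap π) = (π.addSubgroupComap (a.addSubgroupOf P)).ker := by
          ext x
          exact ⟨fun h => Subtype.ext h, fun h => congrArg Subtype.val h⟩
        rw [e2, Nat.card_congr (QuotientAddGroup.quotientKerEquivOfSurjective _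
          (AddMonoidHom.addSubgroupComap_surjective_of_surjective π _ hπ)).toEquiv]
        exact Nat.card_congr (AddSubgroup.addSubgroupOfEquivOfLe haP).toEquiv
      have hΦcard : Nat.card d.Φ = Nat.card P * Nat.card π.ker := by
        rw [AddSubgroup.card_eq_card_quotient_mul_card_addSubgroup π.ker,
          Nat.card_congr (QuotientAddGroup.quotientKerEquivOfSurjective π hπ).toEquiv]
      rw [hEcard, hPa, hEb, hΦcard] at key
      refine Nat.lt_of_mul_lt_mul_right (a := Nat.card g.ker * Nat.card π.ker) ?_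
      calc _ = Nat.card S * Nat.card g.ker * (Nat.card a * Nat.card π.ker) := by ring
        _ < _ := key
        _ = _ := by ring
    · obtain ⟨s, hs, hs'⟩ : ∃ s ∈ S, ∃ p ∈ P, φ p s ≠ 0 := by
        by_contra hc
        push Not at hc
        exact hbS (le_antisymm (fun s hs => ((hb s).1 hs).1) fun s hs => (hb s).2 ⟨hs, hc s hs⟩)
      obtain ⟨q, hq, hqM, rfl⟩ := hsur s hs
      obtain ⟨_, ⟨x, hx, rfl⟩, hne⟩ := hs'
      exact ⟨q, hq, x, hx, fun e => hne (Subtype.ext ((hval ⟨q, hqM⟩ x hx).trans (sub_eq_zero.2 e)))⟩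
  -- the quotient is large
  have hΦC : ∃ y ∈ d.Φ, y ∉ d.C := by
    by_contra hc
    push Not at hc
    exact d.hne (AddSubgroup.eq_of_le_of_card_ge (by rintro _ ⟨y, hy, rfl⟩; show d.act d.l y ∈ d.Φ; exact (d.act_C d.hl (hc y hy)).symm ▸ hy)
      (Nat.card_congr (AddSubgroup.equivMapOfInjective _ _ (act_injective d.act d.l)).toEquiv).le)
  have hcardC : Nat.card (d.C.addSubgroupOf d.X) = Nat.card d.C :=
    Nat.card_congr (AddSubgroup.addSubgroupOfEquivOfLe d.C_le_X).toEquiv
  have hcardX : Nat.card d.X = Nat.card W * Nat.card d.C := by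
    rw [AddSubgroup.card_eq_card_quotient_mul_card_addSubgroup (d.C.addSubgroupOf d.X), hcardC]
  let up : AddSubgroup W → AddSubgroup V := fun Y => (Y.comap mk).map d.X.subtype
  have hupcard : ∀ Y, Nat.card (up Y) = Nat.card Y * Nat.card d.C := fun Y => by
    have hker : d.C.addSubgroupOf d.X ≤ Y.comap mk := fun c hc => by
      show mk c ∈ Y
      rw [show mk c = 0 from (QuotientAddGroup.eq_zero_iff c).2 hc]
      exact zero_mem Y
    rw [Nat.card_congr (AddSubgroup.equivMapOfInjective (Y.comap mk) _ d.X.subtype_injective).symm.toEquiv,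
      AddSubgroup.card_eq_card_quotient_mul_card_addSubgroup ((d.C.addSubgroupOf d.X).addSubgroupOf (Y.comap mk)),
      Nat.card_congr (AddSubgroup.addSubgroupOfEquivOfLe hker).toEquiv, hcardC]
    congr 1
    have e2 : (d.C.addSubgroupOf d.X).addSubgroupOf (Y.comap mk) = (mk.addSubgroupComap Y).ker := by
      ext x
      exact ⟨fun h => Subtype.ext ((QuotientAddGroup.eq_zero_iff _).2 h),
        fun h => AddSubgroup.mem_addSubgroupOf.2 ((QuotientAddGroup.eq_zero_iff x.1).1 (congrArg Subtype.val h :))⟩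
    rw [e2, Nat.card_congr (QuotientAddGroup.quotientKerEquivOfSurjective _
      (AddMonoidHom.addSubgroupComap_surjective_of_surjective mk Y (QuotientAddGroup.mk'_surjective _))).toEquiv]
  have hm : ∀ Y Y' : AddSubgroup W, Y < Y' → (∀ (k : d.L), ∀ y ∈ Y, ρW k y ∈ Y) →
      (∀ (k : d.L), ∀ y ∈ Y', ρW k y ∈ Y') → (d.n * d.n + 1) * Nat.card Y ≤ Nat.card Y' := by
    intro Y Y' hlt hY hY'
    have hmid : ∀ Y : AddSubgroup W, (∀ (k : d.L), ∀ y ∈ Y, ρW k y ∈ Y) → d.Mid (up Y) := by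
      intro Y hY
      refine ⟨fun c hc => ⟨⟨c, d.C_le_X hc⟩, ?_, rfl⟩, AddSubgroup.map_le_iff_le_comap.2 fun x _ => x.2, ?_⟩
      · show mk _ ∈ Y
        rw [show mk ⟨c, d.C_le_X hc⟩ = 0 from (QuotientAddGroup.eq_zero_iff _).2 hc]
        exact zero_mem _
      · rintro k hk _ ⟨x, hx, rfl⟩
        exact ⟨⟨_, d.inv_X k hk x x.2⟩, show mk _ ∈ Y from hρW ⟨k, hk⟩ x ▸ hY ⟨k, hk⟩ _ hx, rfl⟩
    have hlt' : up Y < up Y' := by
      refine lt_of_le_of_ne (AddSubgroup.map_mono (AddSubgroup.comap_mono hlt.le)) fun e => ?_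
      have := congrArg (fun Z : AddSubgroup V => Nat.card Z) e
      simp only [hupcard] at this
      exact hlt.ne (AddSubgroup.eq_of_le_of_card_ge hlt.le (Nat.eq_of_mul_eq_mul_right Nat.card_pos this).ge)
    have := d.big hfree (hmid Y hY) (hmid Y' hY') hlt'
    rw [hupcard, hupcard, ← mul_assoc] at this
    exact Nat.le_of_mul_le_mul_right this Nat.card_pos
  -- the images of the elements fixing all labels
  let A₀ : Subgroup H := d.D ⊓ d.Q
  have hA₀M : A₀ ≤ d.M₀ := fun q hq => ⟨hq.2, fun x hx => d.Q_stabilises hq.1 hq.2 hx⟩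
  let gA : A₀ →* Multiplicative (W →+ d.C) := δ.comp (Subgroup.inclusion hA₀M)
  have hker : Nat.card gA.ker = Nat.card ↥(d.D ⊓ stabF d.act d.X) := Nat.card_congr
    { toFun := fun q => ⟨(q.1 : H), q.1.2.1, fun x hx => by
        have h := hδ (Subgroup.inclusion hA₀M q.1) ⟨x, hx⟩
        rw [show δ (Subgroup.inclusion hA₀M q.1) = 1 from q.2] at h
        exact sub_eq_zero.1 h.symm⟩
      invFun := fun q => ⟨⟨q.1, q.2.1, d.mem_Q_of_fix q.2.1 q.2.2⟩, Multiplicative.toAdd.injective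
        (QuotientAddGroup.addMonoidHom_ext _ (AddMonoidHom.ext fun x => Subtype.ext ((hδ _ x).trans (by
          show d.act (q.1 : H) x - x = 0
          rw [q.2.2 x x.2, sub_self]))))⟩
      left_inv := fun q => rfl
      right_inv := fun q => rfl }
  obtain ⟨xn, hxn⟩ : ∃ x, x = Nat.card gA.range := ⟨_, rfl⟩
  have hD : Nat.card d.D = d.n * (xn * Nat.card ↥(d.D ⊓ stabF d.act d.X)) := by
    rw [Subgroup.card_eq_card_quotient_mul_card_subgroup (d.Q.subgroupOf d.D)]
    congr 1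
    rw [show Nat.card (d.Q.subgroupOf d.D) = Nat.card A₀ from Nat.card_congr
      { toFun := fun q => ⟨(q.1 : H), q.1.2, q.2⟩
        invFun := fun q => ⟨⟨q.1, q.2.1⟩, q.2.2⟩
        left_inv := fun q => rfl
        right_inv := fun q => rfl },
      Subgroup.card_eq_card_quotient_mul_card_subgroup gA.ker,
      Nat.card_congr (QuotientGroup.quotientKerEquivRange gA).toEquiv, hker, hxn]
  -- the best offender bound
  have hX2 := (d.half d.mv_l ⟨d.C_le_X, le_rfl, d.inv_X⟩).2
  have hbound : Nat.card W ≤ (d.n * xn) * (d.n * xn) := by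
    have hb := d.best (d.D ⊓ stabF d.act d.X) inf_le_left
    unfold offM at hb
    have hsup : Nat.card ↥(d.X ⊔ d.U) ≤ Nat.card (fixS d.act (d.D ⊓ stabF d.act d.X)) :=
      AddSubgroup.card_le_of_le (sup_le (fun x hx q hq => hq.2 x hx) (fixS_anti d.act inf_le_left))
    have h1 := card_sup_inf d.X d.U
    have hU : d.U = fixS d.act d.D := rfl
    have h2 : Nat.card d.X ≤ d.n * xn * Nat.card ↥(d.X ⊓ d.U) := by
      refine Nat.le_of_mul_le_mul_left ?_ (Nat.mul_pos (Nat.card_pos (α := d.U)) (Nat.card_pos (α := ↥(d.D ⊓ stabF d.act d.X))))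
      calc Nat.card d.U * Nat.card ↥(d.D ⊓ stabF d.act d.X) * Nat.card d.X
          = Nat.card ↥(d.D ⊓ stabF d.act d.X) * (Nat.card ↥(d.X ⊔ d.U) * Nat.card ↥(d.X ⊓ d.U)) := by rw [h1]; ring
        _ ≤ Nat.card ↥(d.D ⊓ stabF d.act d.X) * Nat.card (fixS d.act (d.D ⊓ stabF d.act d.X)) *
            Nat.card ↥(d.X ⊓ d.U) := by
          rw [← mul_assoc]; exact Nat.mul_le_mul_right _ (Nat.mul_le_mul_left _ hsup)
        _ ≤ Nat.card d.D * Nat.card d.U * Nat.card ↥(d.X ⊓ d.U) := Nat.mul_le_mul_right _ (hU ▸ hb)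
        _ = _ := by rw [hD]; ring
    refine Nat.le_of_mul_le_mul_right ?_ (Nat.mul_pos (Nat.card_pos (α := d.X)) (Nat.card_pos (α := d.C)))
    calc Nat.card W * (Nat.card d.X * Nat.card d.C) = Nat.card d.X * Nat.card d.X := by
          nth_rewrite 2 [hcardX]; ring
      _ ≤ (d.n * xn * Nat.card ↥(d.X ⊓ d.U)) * (d.n * xn * Nat.card ↥(d.X ⊓ d.U)) := Nat.mul_le_mul h2 h2
      _ = (d.n * xn) * (d.n * xn) * (Nat.card ↥(d.X ⊓ d.U) * Nat.card ↥(d.X ⊓ d.U)) := by ring
      _ = _ := by rw [← hX2]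
  -- the two images are independent
  haveI : Finite F := Finite.of_injective (fun f : F => ((f : W →+ d.C) : W → d.C)) fun f g h => Subtype.ext (DFunLike.coe_injective h)
  have hxF : xn * xn ≤ Nat.card F := by
    rw [hxn, ← Nat.card_prod]
    have hmem : ∀ f : gA.range, Multiplicative.toAdd (f : Multiplicative (W →+ d.C)) ∈ F := by
      rintro ⟨_, q, rfl⟩; exact ⟨_, rfl⟩
    let t : gA.range × gA.range → F := fun fg =>
      ⟨_, hmem fg.1⟩ + ρF ⟨d.l, d.hl⟩ ⟨_, hmem fg.2⟩
    refine Nat.card_le_card_of_injective t ?_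
    rintro ⟨f, g⟩ ⟨f', g'⟩ he
    have hvU : ∀ (f : gA.range) (x : d.X), (x : V) ∈ d.U → (Multiplicative.toAdd (f : Multiplicative (W →+ d.C))) (mk x) = 0 := by
      rintro ⟨_, q, rfl⟩ x hx
      exact Subtype.ext ((hδ _ x).trans (sub_eq_zero.2 (hx q q.2.1)))
    have hk : ∀ w : W, Multiplicative.toAdd (f : Multiplicative (W →+ d.C)) w + Multiplicative.toAdd (g : Multiplicative (W →+ d.C)) (ρW ⟨d.l, d.hl⟩⁻¹ w) =
        Multiplicative.toAdd (f' : Multiplicative (W →+ d.C)) w + Multiplicative.toAdd (g' : Multiplicative (W →+ d.C)) (ρW ⟨d.l, d.hl⟩⁻¹ w) := by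
      intro w
      have := congrArg (fun e : F => (e : W →+ d.C) w) he
      simpa [t, hρF] using this
    have hff : f = f' := by
      refine Subtype.ext (Multiplicative.toAdd.injective (QuotientAddGroup.addMonoidHom_ext _ (AddMonoidHom.ext fun x => ?_)))
      show Multiplicative.toAdd (f : Multiplicative (W →+ d.C)) (mk x) = Multiplicative.toAdd (f' : Multiplicative (W →+ d.C)) (mk x)
      obtain ⟨u, hu, w, hw, e⟩ := d.decompose_X d.mv_l x.2
      have ex : x = ⟨u, hu.1⟩ + ⟨w, hw.1⟩ := Subtype.ext e.symm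
      rw [ex, map_add, map_add, map_add, hvU f ⟨u, hu.1⟩ hu.2, hvU f' ⟨u, hu.1⟩ hu.2, zero_add, zero_add]
      have h := hk (mk ⟨w, hw.1⟩)
      rw [hρW] at h
      rwa [hvU g _ (d.mem_Uc.1 hw.2), hvU g' _ (d.mem_Uc.1 hw.2), add_zero, add_zero] at h
    subst hff
    have hgg : g = g' := by
      refine Subtype.ext (Multiplicative.toAdd.injective (AddMonoidHom.ext fun w => ?_))
      have h := add_left_cancel (hk (ρW ⟨d.l, d.hl⟩ w))
      have e : ρW ⟨d.l, d.hl⟩⁻¹ (ρW ⟨d.l, d.hl⟩ w) = w := by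
        show (ρW ⟨d.l, d.hl⟩⁻¹ * ρW ⟨d.l, d.hl⟩) w = w
        rw [← map_mul, inv_mul_cancel, map_one]
        rfl
      rwa [e] at h
    rw [hgg]
  have hnpos : 0 < d.n := Nat.card_pos
  rcases subsingleton_or_nontrivial F with hF | hF
  · have hx1 : xn * xn ≤ 1 := hxF.trans (le_of_eq (Nat.card_eq_one_iff_unique.2 ⟨hF, ⟨0⟩⟩))
    have hW : (d.n * d.n + 1) * Nat.card (⊥ : AddSubgroup W) ≤ Nat.card (⊤ : AddSubgroup W) := by
      refine hm ⊥ ⊤ ?_ (fun k y hy => by rw [AddSubgroup.mem_bot.1 hy, map_zero]; exact zero_mem _)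
        fun _ _ _ => AddSubgroup.mem_top _
      obtain ⟨y, hy, hyC⟩ := hΦC
      refine lt_of_le_of_ne bot_le fun e => hyC ?_
      have h0 : mk ⟨y, d.phi_le_X hy⟩ ∈ (⊥ : AddSubgroup W) := e ▸ AddSubgroup.mem_top _
      exact AddSubgroup.mem_addSubgroupOf.1 ((QuotientAddGroup.eq_zero_iff _).1 (AddSubgroup.mem_bot.1 h0))
    rw [AddSubgroup.card_bot, mul_one, AddSubgroup.card_top] at hW
    have : d.n * xn * (d.n * xn) ≤ d.n * d.n := by
      calc _ = d.n * d.n * (xn * xn) := by ring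
        _ ≤ d.n * d.n * 1 := Nat.mul_le_mul_left _ hx1
        _ = _ := mul_one _
    omega
  · have hgain := pairing_gain inv nd gen strict (fun f => Subtype.ext (AddMonoidHom.ext fun w => Subtype.ext (d.h2 _))) hm
    have h := hgain.trans hbound
    have h2 : d.n * xn * (d.n * xn) ≤ d.n * d.n * Nat.card F := by
      calc _ = d.n * d.n * (xn * xn) := by ring
        _ ≤ _ := Nat.mul_le_mul_left _ hxF
    have hFpos : 0 < Nat.card F := Nat.card_pos
    rw [Nat.add_mul, one_mul] at h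
    omega

end Loc

theorem involves_of_subgroup (N : Subgroup H) (h : Cfsg.Involves (Equiv.Perm (Fin 3)) N) :
    Cfsg.Involves (Equiv.Perm (Fin 3)) H :=
  CfsgLib.LocalEven.involves_of_section N.subtype N.subtype_injective (MonoidHom.id N) Function.surjective_id h

theorem quad_conj {act : H →* AddMonoid.End V} {A : Subgroup H} (hA : Quad act A) (g : H) :
    Quad act (A.map (MulAut.conj g).toMonoidHom) := by
  rintro _ ⟨a, ha, rfl⟩ x _ ⟨b, hb, rfl⟩
  show act (g * b * g⁻¹) (act (g * a * g⁻¹) x - x) = act (g * a * g⁻¹) x - x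
  have h := hA a ha (act g⁻¹ x) b hb
  have e : act (g * a * g⁻¹) x - x = act g (act a (act g⁻¹ x) - act g⁻¹ x) := by
    rw [map_sub, act_inv', act_mul, act_mul]
  rw [e, act_mul, act_mul, act_inv, h]

theorem offM_conj (act : H →* AddMonoid.End V) (B : Subgroup H) (g : H) :
    offM act (B.map (MulAut.conj g).toMonoidHom) = offM act B := by
  unfold offM
  rw [Subgroup.card_map_of_injective (MulAut.conj g).injective]
  congr 1
  refine (Nat.card_congr ?_).symm
  exact
    { toFun := fun x => ⟨act g x, map_fixS act g B ⟨_, x.2, rfl⟩⟩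
      invFun := fun x => ⟨act g⁻¹ x, fun b hb => by
        have h := x.2 _ (Subgroup.mem_map_of_mem _ hb)
        change act (g * b * g⁻¹) (x : V) = x at h
        rw [act_mul, act_mul] at h
        conv_rhs => rw [← h, act_inv]⟩
      left_inv := fun x => Subtype.ext (act_inv act g x)
      right_inv := fun x => Subtype.ext (act_inv' act g x) }

theorem best_conj {act : H →* AddMonoid.End V} {A : Subgroup H} (hA : ∀ B ≤ A, offM act B ≤ offM act A) (g : H) :
    ∀ B ≤ A.map (MulAut.conj g).toMonoidHom, offM act B ≤ offM act (A.map (MulAut.conj g).toMonoidHom) := by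
  intro B hB
  rw [offM_conj, ← offM_conj act B g⁻¹]
  refine hA _ ((Subgroup.map_mono hB).trans (le_of_eq ?_))
  rw [map_conj_map, inv_mul_cancel, map_conj_one]

/-- Quadratic best offenders of a Sylow `2`-subgroup fix the orbits of its fixed points. -/
theorem star {H : Type u} [Group H] [Finite H] (hfree : ¬ Cfsg.Involves (Equiv.Perm (Fin 3)) H)
    (V : Type v) [AddCommGroup V] [Finite V] (h2 : ∀ x : V, x + x = 0) : Star H V := by
  induction hn : Nat.card H using Nat.strong_induction_on generalizing H V with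
  | _ n ih =>
  intro act T A hAT hquad hbest x hx h a ha
  by_contra hmove
  obtain ⟨D, T', L, l, hD, hl, hL, hne, hgen⟩ := exists_two_gen hAT hx ha hmove
  obtain ⟨g, hg⟩ := hD.1
  let d : Loc H V :=
    { act := act, A := A, T := T', D := D, L := L, l := l, h2 := h2, hD := hD, hl := hl, hL := hL, hne := hne,
      hgen := hgen, quad := hg ▸ quad_conj hquad g, best := hg ▸ best_conj hbest g }
  refine d.contradiction hfree fun N hN => ih (Nat.card N) ?_ (fun h' => hfree (involves_of_subgroup N h')) _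
    (fun y => Subtype.ext (h2 _)) rfl
  exact hn ▸ lt_of_le_of_ne (Subgroup.card_le_card_group N) fun e => hN (Subgroup.eq_top_of_card_eq N e)

/-- An element acting trivially on an invariant subgroup and on the quotient acts as an involution. -/
theorem exists_pow_act (act : H →* AddMonoid.End V) (h2 : ∀ x : V, x + x = 0) {Y : AddSubgroup V} {g : H}
    (h1 : ∀ y ∈ Y, act g y = y) (hq : ∀ x, act g x - x ∈ Y) (x : V) : act (g * g) x = x := by
  have h := h1 _ (hq x)
  rw [map_sub, sub_eq_iff_eq_add] at h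
  rw [act_mul, h, sub_add_eq_add_sub, h2, zero_sub]
  exact neg_eq_of_add_eq_zero_left (h2 x)

/-- No offenders outside a normal subgroup acting as a `2`-group. -/
theorem exists_kernel_offender_lt (hfree : ¬ Cfsg.Involves (Equiv.Perm (Fin 3)) H)
    (act : H →* AddMonoid.End V) (h2 : ∀ x : V, x + x = 0) :
    ∃ N : Subgroup H, N.Normal ∧ (∀ g ∈ N, ∃ k : ℕ, ∀ x, act (g ^ 2 ^ k) x = x) ∧
      ∀ E : Subgroup H, IsPGroup 2 E → (∀ a ∈ E, ∀ b ∈ E, ∀ x, act a (act b x) = act b (act a x)) →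
        Nat.card E * Nat.card (fixS act E) ≤ Nat.card ↥(E ⊓ N) * Nat.card V ∧
          (¬ E ≤ N → Nat.card E * Nat.card (fixS act E) < Nat.card ↥(E ⊓ N) * Nat.card V) := by
  haveI : Fact (Nat.Prime 2) := ⟨Nat.prime_two⟩
  induction hn : Nat.card V using Nat.strong_induction_on generalizing V with
  | _ n ih =>
  subst hn
  rcases subsingleton_or_nontrivial V with hV | hV
  · refine ⟨⊤, inferInstance, fun g _ => ⟨0, fun x => Subsingleton.elim _ _⟩, fun E _ _ => ⟨?_, fun h => absurd le_top h⟩⟩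
    rw [inf_top_eq]
    exact Nat.mul_le_mul_left _ (Nat.card_le_card_of_injective _ Subtype.val_injective)
  -- a minimal invariant subgroup
  haveI : Finite (AddSubgroup V) := Finite.of_injective (fun S : AddSubgroup V => (S : Set V)) SetLike.coe_injective
  obtain ⟨V₁, -, hV₁⟩ := Finite.exists_le_minimal
    (p := fun Y : AddSubgroup V => Y ≠ ⊥ ∧ ∀ g : H, ∀ y ∈ Y, act g y ∈ Y) (a := ⊤)
    ⟨top_ne_bot, fun _ _ _ => AddSubgroup.mem_top _⟩
  obtain ⟨hV₁b, hinv⟩ := hV₁.1
  let act₁ : H →* AddMonoid.End V₁ :=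
    { toFun := fun g =>
        { toFun := fun y => ⟨act g y, hinv g y y.2⟩
          map_zero' := Subtype.ext (map_zero _)
          map_add' := fun y z => Subtype.ext (map_add _ _ _) }
      map_one' := AddMonoidHom.ext fun y => Subtype.ext (act_one act (y : V))
      map_mul' := fun g k => AddMonoidHom.ext fun y => Subtype.ext (act_mul act g k (y : V)) }
  let act₂ : H →* AddMonoid.End (V ⧸ V₁) :=
    { toFun := fun g => QuotientAddGroup.map _ _ (act g) fun y hy => hinv g y hy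
      map_one' := QuotientAddGroup.addMonoidHom_ext _ (AddMonoidHom.ext fun x =>
        congrArg QuotientAddGroup.mk (act_one act x))
      map_mul' := fun g k => QuotientAddGroup.addMonoidHom_ext _ (AddMonoidHom.ext fun x =>
        congrArg QuotientAddGroup.mk (act_mul act g k x)) }
  haveI : Nontrivial V₁ := (AddSubgroup.nontrivial_iff_ne_bot V₁).2 hV₁b
  have hlt : Nat.card (V ⧸ V₁) < Nat.card V := by
    rw [AddSubgroup.card_eq_card_quotient_mul_card_addSubgroup V₁]
    exact lt_mul_of_one_lt_right Nat.card_pos Finite.one_lt_card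
  obtain ⟨N', hN', hpow, hN'E⟩ := ih (Nat.card (V ⧸ V₁)) hlt act₂ (fun x => by
    obtain ⟨y, rfl⟩ := QuotientAddGroup.mk_surjective x
    rw [← QuotientAddGroup.mk_add, h2]; rfl) rfl
  have h21 : ∀ y : V₁, y + y = 0 := fun y => Subtype.ext (h2 _)
  -- the minimal subgroup is generated by fixed points
  have hgen : AddSubgroup.closure (⋃ T : Sylow 2 H, (fixS act₁ (T : Subgroup H) : Set V₁)) = ⊤ := by
    obtain ⟨S, hS⟩ : ∃ S, S = AddSubgroup.closure (⋃ T : Sylow 2 H, (fixS act₁ (T : Subgroup H) : Set V₁)) := ⟨_, rfl⟩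
    rw [← hS]
    have hSinv : ∀ g : H, S ≤ S.comap (act₁ g) := by
      intro g
      conv_lhs => rw [hS]
      refine (AddSubgroup.closure_le _).2 fun y hy => ?_
      obtain ⟨T, hy⟩ := Set.mem_iUnion.1 hy
      exact hS ▸ AddSubgroup.subset_closure (Set.mem_iUnion.2 ⟨g • T, map_fixS act₁ g _ ⟨y, hy, rfl⟩⟩)
    have hS0 : S ≠ ⊥ := by
      obtain ⟨T⟩ : Nonempty (Sylow 2 H) := inferInstance
      obtain ⟨k, hk⟩ : ∃ k, Nat.card V₁ = 2 ^ k := by
        have : IsPGroup 2 (Multiplicative V₁) := fun y => ⟨1, by rw [pow_one, pow_two]; exact h21 _⟩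
        exact this.exists_card_eq
      let inst : MulAction (T : Subgroup H) V₁ :=
        { smul := fun t y => act₁ (t : H) y
          one_smul := fun y => act_one act₁ y
          mul_smul := fun s t y => act_mul act₁ (s : H) t y }
      have h2dvd : 2 ∣ Nat.card V₁ := by
        rcases k with _ | k
        · exact absurd hk (Finite.one_lt_card (α := V₁)).ne'
        · exact hk ▸ dvd_pow_self 2 (Nat.succ_ne_zero k)
      have h0 : (0 : V₁) ∈ MulAction.fixedPoints (T : Subgroup H) V₁ := fun t => map_zero (act₁ (t : H))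
      obtain ⟨y, hy, hy0⟩ := T.2.exists_fixed_point_of_prime_dvd_card_of_fixed_point V₁ h2dvd h0
      refine fun e => hy0 ?_
      have : y ∈ S := hS ▸ AddSubgroup.subset_closure (Set.mem_iUnion.2 ⟨T, fun t ht => hy ⟨t, ht⟩⟩)
      exact ((AddSubgroup.mem_bot).1 (e ▸ this)).symm
    have hle : S.map V₁.subtype ≤ V₁ := AddSubgroup.map_le_iff_le_comap.2 fun y _ => y.2
    have heq : S.map V₁.subtype = V₁ := by
      refine le_antisymm hle (hV₁.2 ⟨fun e => hS0 ?_, ?_⟩ hle)
      · exact (AddSubgroup.map_eq_bot_iff_of_injective _ V₁.subtype_injective).1 e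
      · rintro g _ ⟨y, hy, rfl⟩
        exact ⟨act₁ g y, hSinv g hy, rfl⟩
    rw [eq_top_iff]
    intro y _
    obtain ⟨z, hz, he⟩ := heq.ge y.2
    exact (Subtype.ext he : z = y) ▸ hz
  refine ⟨N' ⊓ stabF act₁ ⊤, ⟨fun g hg k => ⟨hN'.conj_mem g hg.1 k, fun y _ => ?_⟩⟩, fun g hg => ?_, fun E hE hcomm => ?_⟩
  · rw [act_mul, act_mul, hg.2 _ (AddSubgroup.mem_top _), act_inv']
  · obtain ⟨k, hk⟩ := hpow g hg.1
    refine ⟨k + 1, fun x => ?_⟩
    rw [pow_succ 2 k, pow_mul, pow_two]
    refine exists_pow_act act h2 (Y := V₁) (fun y hy => congrArg Subtype.val ((stabF act₁ ⊤).pow_mem hg.2 _ ⟨y, hy⟩ (AddSubgroup.mem_top _))) (fun z => ?_) x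
    rw [← neg_add_eq_sub]
    exact QuotientAddGroup.eq.1 (hk (QuotientAddGroup.mk z)).symm
  obtain ⟨h₂le, h₂lt⟩ := hN'E E hE (fun a ha b hb x => by
    obtain ⟨y, rfl⟩ := QuotientAddGroup.mk_surjective x
    exact congrArg QuotientAddGroup.mk (hcomm a ha b hb y))
  have hcomm₁ : ∀ a ∈ E, ∀ b ∈ E, ∀ y, act₁ a (act₁ b y) = act₁ b (act₁ a y) := fun a ha b hb y =>
    Subtype.ext (hcomm a ha b hb y)
  have h₁ : Nat.card E * Nat.card (fixS act₁ E) ≤ Nat.card ↥(E ⊓ stabF act₁ ⊤) * Nat.card V₁ ∧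
      (¬ E ≤ stabF act₁ ⊤ → Nat.card E * Nat.card (fixS act₁ E) < Nat.card ↥(E ⊓ stabF act₁ ⊤) * Nat.card V₁) := by
    by_cases hmv : ∃ a ∈ E, ∃ y, act₁ a y ≠ y
    · exact ⟨(offender_lt_of_star h21 (star hfree _ h21) hgen hE hcomm₁ hmv).le,
        fun _ => offender_lt_of_star h21 (star hfree _ h21) hgen hE hcomm₁ hmv⟩
    push Not at hmv
    have hEK : E ≤ stabF act₁ ⊤ := fun a ha y _ => hmv a ha y
    refine ⟨?_, fun h => absurd hEK h⟩
    rw [inf_eq_left.2 hEK]
    exact Nat.mul_le_mul_left _ (Nat.card_le_card_of_injective _ Subtype.val_injective)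
  -- fixed points
  have hfix : Nat.card (fixS act E) ≤ Nat.card (fixS act₂ E) * Nat.card (fixS act₁ E) := by
    let π : fixS act E →+ fixS act₂ E :=
      { toFun := fun x => ⟨QuotientAddGroup.mk (x : V), fun a ha => congrArg QuotientAddGroup.mk (x.2 a ha)⟩
        map_zero' := rfl
        map_add' := fun x y => rfl }
    rw [AddSubgroup.card_eq_card_quotient_mul_card_addSubgroup π.ker]
    refine Nat.mul_le_mul ((Nat.card_congr (QuotientAddGroup.quotientKerEquivRange π).toEquiv).trans_le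
      (Nat.card_le_card_of_injective _ Subtype.val_injective)) ?_
    refine Nat.card_le_card_of_injective (fun x => (⟨⟨x.1.1, (QuotientAddGroup.eq_zero_iff _).1 (congrArg Subtype.val x.2)⟩,
      fun a ha => Subtype.ext (x.1.2 a ha)⟩ : fixS act₁ E)) fun x y h => ?_
    exact Subtype.ext (Subtype.ext (congrArg (fun z : fixS act₁ E => ((z : V₁) : V)) h))
  have hidx : Nat.card ↥(E ⊓ N') * Nat.card ↥(E ⊓ stabF act₁ ⊤) ≤
      Nat.card E * Nat.card ↥(E ⊓ (N' ⊓ stabF act₁ ⊤)) := by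
    let P : Subgroup E := (E ⊓ N').subgroupOf E
    let Q : Subgroup E := (E ⊓ stabF act₁ ⊤).subgroupOf E
    have h1 : P.index * Nat.card P = Nat.card E := Subgroup.index_mul_card P
    have h2' : P.relIndex Q * Nat.card ↥(P ⊓ Q) = Nat.card Q := by
      rw [← Subgroup.inf_relIndex_right, Subgroup.relIndex,
        ← Nat.card_congr (Subgroup.subgroupOfEquivOfLe (inf_le_right : P ⊓ Q ≤ Q)).toEquiv]
      exact Subgroup.index_mul_card _
    have h3 : P.relIndex Q ≤ P.index := by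
      rw [← Subgroup.relIndex_top_right]
      exact Subgroup.relIndex_le_of_le_right le_top (by rw [Subgroup.relIndex_top_right]; exact Subgroup.index_ne_zero_of_finite)
    have cP : Nat.card P = Nat.card ↥(E ⊓ N') := Nat.card_congr (Subgroup.subgroupOfEquivOfLe inf_le_left).toEquiv
    have cQ : Nat.card Q = Nat.card ↥(E ⊓ stabF act₁ ⊤) := Nat.card_congr (Subgroup.subgroupOfEquivOfLe inf_le_left).toEquiv
    have cPQ : Nat.card ↥(P ⊓ Q) = Nat.card ↥(E ⊓ (N' ⊓ stabF act₁ ⊤)) := Nat.card_congr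
      { toFun := fun x => ⟨(x.1 : H), x.1.2, x.2.1.2, x.2.2.2⟩
        invFun := fun x => ⟨⟨x.1, x.2.1⟩, ⟨x.2.1, x.2.2.1⟩, x.2.1, x.2.2.2⟩
        left_inv := fun x => rfl
        right_inv := fun x => rfl }
    rw [← cP, ← cQ, ← cPQ, ← h1, ← h2']
    calc _ = P.relIndex Q * (Nat.card P * Nat.card ↥(P ⊓ Q)) := by ring
      _ ≤ P.index * (Nat.card P * Nat.card ↥(P ⊓ Q)) := Nat.mul_le_mul_right _ h3
      _ = _ := by ring
  have hcV : Nat.card (V ⧸ V₁) * Nat.card V₁ = Nat.card V :=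
    (AddSubgroup.card_eq_card_quotient_mul_card_addSubgroup V₁).symm
  have hmain : Nat.card ↥(E ⊓ N') * Nat.card (V ⧸ V₁) * (Nat.card ↥(E ⊓ stabF act₁ ⊤) * Nat.card V₁) ≤
      Nat.card E * (Nat.card ↥(E ⊓ (N' ⊓ stabF act₁ ⊤)) * Nat.card V) := by
    calc _ = Nat.card ↥(E ⊓ N') * Nat.card ↥(E ⊓ stabF act₁ ⊤) * (Nat.card (V ⧸ V₁) * Nat.card V₁) := by ring
      _ ≤ Nat.card E * Nat.card ↥(E ⊓ (N' ⊓ stabF act₁ ⊤)) * (Nat.card (V ⧸ V₁) * Nat.card V₁) := Nat.mul_le_mul_right _ hidx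
      _ = _ := by rw [hcV]; ring
  have hlow : Nat.card E * (Nat.card E * Nat.card (fixS act E)) ≤
      Nat.card E * Nat.card (fixS act₂ E) * (Nat.card E * Nat.card (fixS act₁ E)) := by
    calc _ ≤ Nat.card E * (Nat.card E * (Nat.card (fixS act₂ E) * Nat.card (fixS act₁ E))) :=
          Nat.mul_le_mul_left _ (Nat.mul_le_mul_left _ hfix)
      _ = _ := by ring
  refine ⟨Nat.le_of_mul_le_mul_left (hlow.trans ((Nat.mul_le_mul h₂le h₁.1).trans hmain)) Nat.card_pos, fun hne => ?_⟩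
  refine Nat.lt_of_mul_lt_mul_left (a := Nat.card E) (lt_of_le_of_lt hlow (lt_of_lt_of_le ?_ hmain))
  by_cases hE2 : E ≤ N'
  · refine Nat.mul_lt_mul_of_le_of_lt h₂le (h₁.2 fun h => hne (le_inf hE2 h)) (Nat.mul_pos Nat.card_pos Nat.card_pos)
  · refine Nat.mul_lt_mul_of_lt_of_le (h₂lt hE2) h₁.1 (Nat.mul_pos Nat.card_pos Nat.card_pos)

end CfsgLib.PGroups.SFree
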