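import Cfsg.Agent.Lib.PGroups.SFree.Core
import Cfsg.Agent.Lib.LocalEven.Factor.Two
import Mathlib.Algebra.Group.TypeTags.Hom

/-!
# Glauberman's factorization for groups without section `S₄`, without hypotheses on composition factors

`factorization`: if `G` has characteristic `2` and no section `S₄` then `G = C(Z(S)) N(J_e(S))`.
-/

set_option autoImplicit false

namespace CfsgLib.PGroups.SFree

open Subgroup CfsgLib.LocalEven.Factor

universe u

variable {G : Type u} [Group G] [Finite G]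

theorem top_of_sylow_odd {N : Type u} [Group N] [Finite N] (S : Sylow 2 N) {M : Subgroup N}
    (hS : ↑S ≤ M) (h : ∀ g : N, Odd (orderOf g) → g ∈ M) : M = ⊤ := by
  refine eq_top_of_le_card M (Nat.le_of_dvd Nat.card_pos ((Nat.dvd_iff_prime_pow_dvd_dvd _ _).2 fun p k hp hpk => ?_))
  haveI : Fact p.Prime := ⟨hp⟩
  rcases eq_or_ne p 2 with rfl | hp2
  · refine dvd_trans ?_ (card_dvd_of_le hS)
    rw [S.card_eq_multiplicity]
    exact pow_dvd_pow 2 ((hp.pow_dvd_iff_le_factorization Nat.card_pos.ne').1 hpk)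
  · obtain ⟨P, hP⟩ := Sylow.exists_subgroup_card_pow_prime p hpk
    rw [← hP]
    refine card_dvd_of_le fun g hg => h g ?_
    obtain ⟨j, -, hj⟩ := (Nat.dvd_prime_pow hp).1 (hP ▸ P.orderOf_dvd_natCard hg)
    rw [hj]
    exact (hp.odd_of_ne_two hp2).pow

/-- The automorphisms of `V` as endomorphisms of the additive group. -/
def autEnd {V : Type*} [CommGroup V] : MulAut V →* AddMonoid.End (Additive V) where
  toFun e := MonoidHom.toAdditive e.toMonoidHom
  map_one' := rfl
  map_mul' _ _ := rfl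

/-- `Ω₁` of the normal closure of `Z(S)` and the action on it. -/
theorem exists_module (hchar : centralizer (Cfsg.pCore 2 G : Set G) ≤ Cfsg.pCore 2 G) (S : Sylow 2 G) :
    ∃ V : Subgroup G, V.Normal ∧ Cfsg.IsElementaryAbelian 2 V ∧ V ≤ (S : Subgroup G) ∧
      ∀ N : Subgroup G, N.Normal → (∀ g ∈ N, ∃ k : ℕ, g ^ 2 ^ k ∈ centralizer (V : Set G)) →
        N ≤ centralizer (((S : Subgroup G) ⊓ centralizer ((S : Subgroup G) : Set G) : Subgroup G) : Set G) ∧
          N ≤ centralizer (V : Set G) := by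
  haveI : Fact (Nat.Prime 2) := ⟨Nat.prime_two⟩
  obtain ⟨Z, hZ⟩ : ∃ Z, Z = (S : Subgroup G) ⊓ centralizer ((S : Subgroup G) : Set G) := ⟨_, rfl⟩
  rw [← hZ]
  obtain ⟨Q, hQ⟩ : ∃ Q, Q = Cfsg.pCore 2 G := ⟨_, rfl⟩
  have hQS : Q ≤ (S : Subgroup G) := hQ ▸ CfsgLib.Core.pCore_le_sylow S
  haveI hQn : Q.Normal := hQ ▸ inferInstance
  obtain ⟨W, hW⟩ : ∃ W, W = normalClosure (Z : Set G) := ⟨_, rfl⟩
  haveI hWn : W.Normal := hW ▸ inferInstance
  have hWQ : W ≤ centralizer (Q : Set G) := hW ▸ normalClosure_le_normal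
    (hZ ▸ inf_le_right.trans (centralizer_le (SetLike.coe_subset_coe.2 hQS)))
  have hWQ' : W ≤ Q := hWQ.trans (hQ ▸ hchar)
  have hWab : W ≤ centralizer (W : Set G) := hWQ.trans (centralizer_le (SetLike.coe_subset_coe.2 hWQ'))
  have hW2 : IsPGroup 2 W := (hQ ▸ CfsgLib.Core.isPGroup_pCore 2 G : IsPGroup 2 Q).to_le hWQ'
  obtain ⟨V, hV⟩ : ∃ V, V = Cfsg.omegaOne 2 W := ⟨_, rfl⟩
  have hVW : V ≤ W := hV ▸ (closure_le _).2 fun x hx => hx.1
  have hVn : V.Normal := hV ▸ ⟨fun x hx g => by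
    have hle : Cfsg.omegaOne 2 W ≤ (Cfsg.omegaOne 2 W).comap (MulAut.conj g).toMonoidHom :=
      (closure_le _).2 fun y hy => subset_closure ⟨hWn.conj_mem y hy.1 g, by
        show (g * y * g⁻¹) ^ 2 = 1
        rw [conj_pow, hy.2]; group⟩
    exact hle hx⟩
  have hVe : Cfsg.IsElementaryAbelian 2 V := by
    have hc : ∀ a ∈ V, ∀ b ∈ V, a * b = b * a := fun a ha b hb =>
      (mem_centralizer_iff.1 (hWab (hVW ha)) b (hVW hb)).symm
    refine ⟨⟨⟨fun a b => Subtype.ext (hc a a.2 b b.2)⟩⟩, fun v hv => ?_⟩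
    rw [hV] at hv
    induction hv using closure_induction with
    | mem x hx => exact hx.2
    | one => exact one_pow 2
    | mul x y hx hy ihx ihy =>
      rw [(show Commute x y from hc x (hV ▸ hx) y (hV ▸ hy)).mul_pow, ihx, ihy, one_mul]
    | inv x _ ih => rw [inv_pow, ih, inv_one]
  refine ⟨V, hVn, hVe, hVW.trans (hWQ'.trans hQS), fun N hN hpow => ?_⟩
  haveI := hN
  have hodd : ∀ g ∈ N, Odd (orderOf g) → g ∈ centralizer (W : Set G) := fun g hg ho => by
    obtain ⟨k, hk⟩ := hpow g hg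
    have hgV : g ∈ centralizer (V : Set G) := by
      obtain ⟨j, hj⟩ := exists_pow_eq_self_of_coprime (x := g) (n := 2 ^ k)
        ((Nat.coprime_two_left.2 ho).pow_left k)
      rw [← hj]
      exact pow_mem hk j
    exact odd_mem_centralizer hWab hW2 ho (by rw [normalizer_eq_top]; exact mem_top g)
      fun w hw h2 => (mem_centralizer_iff.1 hgV w (hV ▸ subset_closure ⟨hw, h2⟩)).symm
  have hNZ : N ≤ centralizer (Z : Set G) := by
    obtain ⟨T, hT⟩ := exists_sylow_inf S N
    have htop := top_of_sylow_odd T (M := (centralizer (Z : Set G)).subgroupOf N) (fun t ht => ?_) fun g hg => ?_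
    · exact Subgroup.subgroupOf_eq_top.1 htop
    · have h1 : (t : G) ∈ N ⊓ (S : Subgroup G) := hT ▸ mem_map_of_mem _ ht
      exact (le_centralizer_iff.1 (hZ ▸ inf_le_right : Z ≤ centralizer ((S : Subgroup G) : Set G))) h1.2
    · exact centralizer_le (SetLike.coe_subset_coe.2 (hW ▸ subset_normalClosure))
        (hodd g g.2 (by rwa [Subgroup.orderOf_coe]))
  refine ⟨hNZ, le_trans ?_ (centralizer_le (SetLike.coe_subset_coe.2 hVW))⟩
  rw [le_centralizer_iff, hW]
  exact normalClosure_le_normal (le_centralizer_iff.1 hNZ)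

/-- `J_e(S)` lies in a normal subgroup centralizing `Z(S)`. -/
theorem exists_normal_je (hchar : centralizer (Cfsg.pCore 2 G : Set G) ≤ Cfsg.pCore 2 G)
    (hfree : ¬ Cfsg.Involves (Equiv.Perm (Fin 4)) G) (S : Sylow 2 G) :
    ∃ C : Subgroup G, C.Normal ∧ je (S : Subgroup G) ≤ C ∧
      C ≤ centralizer (((S : Subgroup G) ⊓ centralizer ((S : Subgroup G) : Set G) : Subgroup G) : Set G) := by
  haveI : Fact (Nat.Prime 2) := ⟨Nat.prime_two⟩
  obtain ⟨V, hVn, hVe, hVS, hkey⟩ := exists_module hchar S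
  haveI := hVn
  letI : CommGroup V := { mul_comm := fun a b => Subtype.ext (elem_comm hVe a.2 b.2) }
  obtain ⟨f, hf⟩ : ∃ f : G →* MulAut V, f = MulAut.conjNormal := ⟨_, rfl⟩
  have hker : f.ker = centralizer (V : Set G) := by
    ext g
    rw [MonoidHom.mem_ker, mem_centralizer_iff, hf]
    constructor
    · intro h v hv
      have := congrArg (fun e : MulAut V => ((e ⟨v, hv⟩ : V) : G)) h
      simp only [MulAut.conjNormal_apply, MulAut.one_apply] at this
      conv_lhs => rw [← this]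
      group
    · intro h
      refine MulEquiv.ext fun v => Subtype.ext ?_
      rw [MulAut.conjNormal_apply, ← h v v.2, mul_inv_cancel_right]
      rfl
  have hfree3 := not_involves_three_action f.rangeRestrict f.rangeRestrict_surjective hfree hVe
    (by rw [MonoidHom.ker_rangeRestrict, hker])
  let act : G →* AddMonoid.End (Additive V) := autEnd.comp f
  have hact : ∀ g x, act g x = Additive.ofMul (f g (Additive.toMul x)) := fun g x => rfl
  obtain ⟨N, hN, hpow, hE⟩ := exists_kernel_offender_lt hfree3 (autEnd.comp f.range.subtype)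
    (fun x : Additive V => Additive.toMul.injective (Subtype.ext (by
      show ((Additive.toMul x : V) : G) * (Additive.toMul x : V) = 1
      rw [← pow_two]
      exact hVe.2 _ (Additive.toMul x).2)))
  obtain ⟨C, hC⟩ : ∃ C, C = N.comap f.rangeRestrict := ⟨_, rfl⟩
  haveI hCn : C.Normal := hC ▸ hN.comap _
  have hCpow : ∀ g ∈ C, ∃ k : ℕ, g ^ 2 ^ k ∈ centralizer (V : Set G) := by
    intro g hg
    rw [hC] at hg
    obtain ⟨k, hk⟩ := hpow _ hg
    refine ⟨k, ?_⟩
    rw [← hker, MonoidHom.mem_ker]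
    refine MulEquiv.ext fun v => ?_
    have := hk (Additive.ofMul v)
    rw [← map_pow f.rangeRestrict] at this
    exact congrArg Additive.toMul this
  obtain ⟨hCZ, hCV⟩ := hkey C hCn hCpow
  refine ⟨C, hCn, je_le fun A hA => ?_, hCZ⟩
  by_contra hAC
  have hAf : Cfsg.IsElementaryAbelian 2 (A.map f.rangeRestrict) := PLocal.elementary_map _ hA.2.1
  have hlt := (hE (A.map f.rangeRestrict) ((S.2.to_le hA.1).map _) (fun a ha b hb x => ?_)).2
    fun hle => hAC fun a ha => hC ▸ hle (mem_map_of_mem _ ha)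
  rotate_left
  · show (autEnd ((a : MulAut V))) ((autEnd (b : MulAut V)) x) = _
    have := congrArg (fun z : f.range => (z : MulAut V)) (elem_comm hAf ha hb)
    exact DFunLike.congr_fun (congrArg autEnd this) x
  -- cardinalities
  have hAN : A.map f.rangeRestrict ⊓ N = ⊥ := by
    rw [eq_bot_iff]
    rintro _ ⟨⟨a, ha, rfl⟩, haN⟩
    have h1 : a ∈ C := hC ▸ haN
    exact Subgroup.mem_bot.2 (Subtype.ext (MonoidHom.mem_ker.1 (hker ▸ hCV h1)))
  rw [hAN, Subgroup.card_bot, one_mul] at hlt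
  obtain ⟨A₀, hA₀⟩ : ∃ A₀, A₀ = A ⊓ centralizer (V : Set G) := ⟨_, rfl⟩
  have hcA : Nat.card A = Nat.card (A.map f.rangeRestrict) * Nat.card A₀ := by
    let g := f.rangeRestrict.subgroupMap A
    rw [Subgroup.card_eq_card_quotient_mul_card_subgroup g.ker, Nat.card_congr
      (QuotientGroup.quotientKerEquivOfSurjective g (f.rangeRestrict.subgroupMap_surjective A)).toEquiv]
    congr 1
    have hmem : ∀ x : G, x ∈ A₀ ↔ x ∈ A ∧ f x = 1 := fun x => by
      rw [hA₀, mem_inf, ← hker, MonoidHom.mem_ker]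
    exact Nat.card_congr
      { toFun := fun x => ⟨(x.1 : G), (hmem _).2 ⟨x.1.2,
          congrArg Subtype.val (congrArg Subtype.val (MonoidHom.mem_ker.1 x.2))⟩⟩
        invFun := fun x => ⟨⟨x.1, ((hmem _).1 x.2).1⟩, MonoidHom.mem_ker.2
          (Subtype.ext (Subtype.ext ((hmem _).1 x.2).2))⟩
        left_inv := fun x => rfl
        right_inv := fun x => rfl }
  have hA₀V : A₀ ≤ centralizer (V : Set G) := hA₀ ▸ inf_le_right
  have hB := hA.2.2 (A₀ ⊔ V) (sup_le ((hA₀ ▸ inf_le_left : A₀ ≤ A).trans hA.1) hVS)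
    (elem_sup (elem_le hA.2.1 (hA₀ ▸ inf_le_left)) hVe hA₀V)
  have hcard := PLocal.card_sup_mul_card_inf A₀ V (hA₀V.trans (centralizer_le_normalizer _))
  have hle : Nat.card ↥(A₀ ⊓ V) ≤ Nat.card (fixS (autEnd.comp f.range.subtype) (A.map f.rangeRestrict)) := by
    refine Nat.card_le_card_of_injective (fun x => (⟨Additive.ofMul (⟨x.1, x.2.2⟩ : V), ?_⟩ :
      fixS (autEnd.comp f.range.subtype) (A.map f.rangeRestrict))) fun x y h => ?_
    · rintro _ ⟨a, ha, rfl⟩
      show Additive.ofMul (f a ⟨x.1, x.2.2⟩) = _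
      congr 1
      apply Subtype.ext
      rw [hf, MulAut.conjNormal_apply]
      show a * x.1 * a⁻¹ = x.1
      rw [elem_comm hA.2.1 ha (hA₀ ▸ x.2.1 : (x : G) ∈ A ⊓ centralizer (V : Set G)).1, mul_inv_cancel_right]
    · exact Subtype.ext (congrArg (fun z : V => (z : G)) (congrArg Additive.toMul (congrArg Subtype.val h)))
  have hV' : Nat.card (Additive V) = Nat.card V := Nat.card_congr Additive.toMul
  rw [hV'] at hlt
  have hA₀pos : 0 < Nat.card A₀ := Nat.card_pos
  refine absurd ?_ (not_le.2 (Nat.mul_lt_mul_of_pos_left hlt hA₀pos))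
  rw [← mul_assoc, mul_comm (Nat.card A₀) (Nat.card (A.map f.rangeRestrict)), ← hcA, hcard]
  exact Nat.mul_le_mul hB hle

/-- Glauberman's factorization. -/
theorem factorization (hchar : centralizer (Cfsg.pCore 2 G : Set G) ≤ Cfsg.pCore 2 G)
    (hfree : ¬ Cfsg.Involves (Equiv.Perm (Fin 4)) G) (S : Sylow 2 G) (g : G) :
    ∃ c ∈ centralizer (((S : Subgroup G) ⊓ centralizer ((S : Subgroup G) : Set G) : Subgroup G) : Set G),
      ∃ n ∈ normalizer (je (S : Subgroup G) : Set G), g = c * n := by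
  obtain ⟨C, hCn, hJ, hCZ⟩ := exists_normal_je hchar hfree S
  haveI := hCn
  obtain ⟨c, hc, n, hn, rfl⟩ := exists_mul_of_normal S (C := C) g
  have hje : je (C ⊓ (S : Subgroup G)) = je (S : Subgroup G) :=
    je_mono_eq inf_le_right (le_inf hJ (je_le_self _))
  exact ⟨c, hCZ hc, n, hje ▸ normalizer_je _ hn, rfl⟩

end CfsgLib.PGroups.SFree
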