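import Cfsg.Agent.Lib.PGroups.SFree.Factor
import Cfsg.Agent.Lib.Techniques.SectionFusion

/-!
# Fusion in groups without section `S₄` is controlled by `Z` and `J_e`
-/

set_option autoImplicit false

namespace CfsgLib.PGroups.SFree

open Subgroup CfsgLib.LocalEven.Factor

universe u

/-- The centre as a functor. -/
abbrev centerFun : ∀ (Q : Type u) [Group Q], Subgroup Q := fun Q _ => center Q

/-- The Thompson subgroup as a functor. -/
abbrev jeFun : ∀ (Q : Type u) [Group Q], Subgroup Q := fun Q _ => Cfsg.thompsonSubgroup 2 Q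

theorem centerFun_isChar (p : ℕ) [Fact p.Prime] : Cfsg.IsCharPFunctor.{u} p centerFun := by
  refine ⟨fun Q _ _ hQ hnt h => ?_, fun Q R _ _ _ _ φ => ?_⟩
  · haveI := hQ.center_nontrivial
    exact ((center Q).nontrivial_iff_ne_bot.1 this) h
  · ext r
    simp only [mem_map, mem_center_iff]
    constructor
    · rintro ⟨q, hq, rfl⟩ g
      obtain ⟨g, rfl⟩ := φ.surjective g
      show φ g * φ q = φ q * φ g
      rw [← map_mul, ← map_mul, hq]
    · intro hr
      refine ⟨φ.symm r, fun g => φ.injective ?_, φ.apply_symm_apply r⟩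
      rw [map_mul, map_mul, φ.apply_symm_apply, hr]

theorem map_thompson_le {Q R : Type u} [Group Q] [Group R] (φ : Q ≃* R) :
    (Cfsg.thompsonSubgroup 2 Q).map φ.toMonoidHom ≤ Cfsg.thompsonSubgroup 2 R := by
  rw [Cfsg.thompsonSubgroup, (gc_map_comap φ.toMonoidHom).l_sSup]
  refine iSup₂_le fun A hA => le_sSup ⟨PLocal.elementary_map _ hA.1, fun B hB => ?_⟩
  rw [← Nat.card_congr (A.equivMapOfInjective φ.toMonoidHom φ.injective).toEquiv,
    Nat.card_congr (B.equivMapOfInjective φ.symm.toMonoidHom φ.symm.injective).toEquiv]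
  exact hA.2 _ (PLocal.elementary_map _ hB)

theorem jeFun_isChar : Cfsg.IsCharPFunctor.{u} 2 jeFun := by
  haveI : Fact (Nat.Prime 2) := ⟨Nat.prime_two⟩
  refine ⟨fun Q _ _ hQ hnt h => ?_, fun Q R _ _ _ _ φ => ?_⟩
  · obtain ⟨x, hx⟩ := exists_prime_orderOf_dvd_card' (G := Q) 2 (by
      obtain ⟨n, hn⟩ := IsPGroup.iff_card.1 hQ
      rcases n with - | n
      · exact absurd (Finite.one_lt_card (α := Q)) (by simp [hn])
      · rw [hn]; exact dvd_pow_self 2 (by omega))
    have hel : Cfsg.IsElementaryAbelian 2 (zpowers x) := by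
      refine ⟨inferInstance, fun y hy => ?_⟩
      obtain ⟨k, rfl⟩ := mem_zpowers_iff.1 hy
      rw [← zpow_natCast, ← zpow_mul, mul_comm, zpow_mul, zpow_natCast, ← hx, pow_orderOf_eq_one, one_zpow]
    obtain ⟨A, hA, hmax⟩ : ∃ A, Cfsg.IsElementaryAbelian 2 A ∧
        ∀ B : Subgroup Q, Cfsg.IsElementaryAbelian 2 B → Nat.card B ≤ Nat.card A := by
      obtain ⟨A, hA, hm⟩ := Set.exists_max_image {B : Subgroup Q | Cfsg.IsElementaryAbelian 2 B}
        (fun B => Nat.card B) (Set.toFinite _) ⟨_, hel⟩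
      exact ⟨A, hA, hm⟩
    have hle : A ≤ ⊥ := h ▸ le_sSup ⟨hA, hmax⟩
    have := hmax _ hel
    rw [le_bot_iff.1 hle, Subgroup.card_bot, Nat.card_zpowers, hx] at this
    omega
  · refine (map_thompson_le φ).antisymm ?_
    have := Subgroup.map_mono (f := φ.toMonoidHom) (map_thompson_le φ.symm)
    refine le_trans (le_of_eq ?_) this
    rw [Subgroup.map_map]
    convert (Subgroup.map_id _).symm using 2
    exact MonoidHom.ext fun r => φ.apply_symm_apply r

theorem induced_centerFun {G : Type u} [Group G] (P : Subgroup G) :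
    Cfsg.inducedFunctor centerFun P = P ⊓ centralizer (P : Set G) := by
  ext x
  simp only [Cfsg.inducedFunctor, mem_map, mem_inf, mem_centralizer_iff]
  constructor
  · rintro ⟨z, hz, rfl⟩
    exact ⟨z.2, fun y hy => congrArg Subtype.val (mem_center_iff.1 hz ⟨y, hy⟩)⟩
  · rintro ⟨hx, hc⟩
    exact ⟨⟨x, hx⟩, mem_center_iff.2 fun y => Subtype.ext (hc y y.2), rfl⟩

theorem induced_jeFun {G : Type u} [Group G] (P : Subgroup G) :
    Cfsg.inducedFunctor jeFun P = je P := rfl

open CfsgLib.Techniques in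
/-- Fusion in a group without section `S₄` is controlled by `Z` and `J_e`. -/
theorem fusion_of_free {G : Type u} [Group G] [Finite G]
    (hfree : ¬ Cfsg.Involves (Equiv.Perm (Fin 4)) G) (K R : Subgroup G) [(R.subgroupOf K).Normal] :
    Cfsg.FamilyControlsStrongFusionIn 2 (inducedSet {centerFun, jeFun} (↥K ⧸ R.subgroupOf K)) ⊤ := by
  haveI : Fact (Nat.Prime 2) := ⟨Nat.prime_two⟩
  have h𝓦 : ∀ W ∈ ({centerFun, jeFun} : Set (∀ (Q : Type u) [Group Q], Subgroup Q)),
      Cfsg.IsCharPFunctor.{u} 2 W := by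
    intro W hW
    simp only [Set.mem_insert_iff, Set.mem_singleton_iff] at hW
    rcases hW with h | h
    · exact h ▸ centerFun_isChar 2
    · exact h ▸ jeFun_isChar
  have hX := free_of_surjective _ (QuotientGroup.mk'_surjective (R.subgroupOf K)) (free_subgroup hfree K)
  refine familyFusion_of_sections h𝓦 (fun H _ _ hs hc => sections_of_quotients h𝓦
    (fun K' R' hR' hc' => ?_) H hs hc) _ (isSec_self _)
  have hX' := free_of_surjective _ (QuotientGroup.mk'_surjective (R'.subgroupOf K')) (free_subgroup hX K')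
  obtain ⟨S⟩ : Nonempty (Sylow 2 (↥K' ⧸ R'.subgroupOf K')) := inferInstance
  have hV := inducedSet_conjugacy h𝓦 (↥K' ⧸ R'.subgroupOf K')
  refine familyControls_of_spath S fun A y hA hAy => ?_
  obtain ⟨c, hc, n, hn, rfl⟩ := factorization hc' hX' S y
  refine spath_of_factor hV S
    (familyFusion_normalizer_functor hV S ⟨jeFun, by simp, rfl⟩)
    (familyFusion_normalizer_functor hV S ⟨centerFun, by simp, rfl⟩)
    (le_normalizer_functor (hV _ ⟨jeFun, by simp, rfl⟩) S.2)
    (le_normalizer_functor (hV _ ⟨centerFun, by simp, rfl⟩) S.2)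
    hn ?_ hA hAy
  show c ∈ normalizer (Cfsg.inducedFunctor centerFun (S : Subgroup (↥K' ⧸ R'.subgroupOf K')) : Set (↥K' ⧸ R'.subgroupOf K'))
  rw [induced_centerFun]
  exact centralizer_le_normalizer _ hc

end CfsgLib.PGroups.SFree
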