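import Mathlib.RingTheory.SimpleModule.Basic
import Mathlib.GroupTheory.Index
import Mathlib.LinearAlgebra.Quotient.Card
import Mathlib.SetTheory.Cardinal.Finite
import Mathlib.GroupTheory.QuotientGroup.Basic
import Mathlib.Data.Fintype.Pigeonhole

/-!
# A separating idempotent for one composition type of a finite module

`exists_idem`: for a cover `A ⋖ B` of submodules of a finite module there are a number `d` and an idempotent `e`
acting as the identity on `B / A`, whose image in every submodule has order a power of `d = |B / A|`.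
-/

set_option autoImplicit false

namespace CfsgLib.PGroups.SFree

open Submodule

universe u v

variable {R : Type u} [Ring R] {M : Type v} [AddCommGroup M] [Module R M]

theorem exists_pow_idem {α : Type*} [Monoid α] [Finite α] (a : α) : ∃ n, 0 < n ∧ a ^ n * a ^ n = a ^ n := by
  obtain ⟨i, j, hne, he⟩ := Finite.exists_ne_map_eq_of_infinite (fun n : ℕ => a ^ n)
  wlog hij : i < j generalizing i j
  · exact this j i hne.symm he.symm (lt_of_le_of_ne (not_lt.1 hij) hne.symm)
  obtain ⟨k, rfl⟩ := Nat.exists_eq_add_of_lt hij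
  have h1 : ∀ t, a ^ (i + t * (k + 1)) = a ^ i := by
    intro t
    induction t with
    | zero => simp
    | succ t ih =>
      rw [show i + (t + 1) * (k + 1) = (i + t * (k + 1)) + (k + 1) by ring, pow_add, ih, ← pow_add]
      exact (he.trans (by rw [Nat.add_assoc])).symm
  refine ⟨(i + 1) * (k + 1), Nat.mul_pos (Nat.succ_pos _) (Nat.succ_pos _), ?_⟩
  have h2 : i ≤ (i + 1) * (k + 1) := le_trans (Nat.le_succ i) (Nat.le_mul_of_pos_right _ (Nat.succ_pos _))
  obtain ⟨m, hm⟩ := Nat.exists_eq_add_of_le h2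
  calc a ^ ((i + 1) * (k + 1)) * a ^ ((i + 1) * (k + 1))
      = a ^ (i + (i + 1) * (k + 1)) * a ^ m := by rw [← pow_add, ← pow_add]; congr 1; omega
    _ = a ^ ((i + 1) * (k + 1)) := by rw [h1, ← pow_add, ← hm]

theorem and_imp_self {a b : Prop} (h : a → b) (ha : a) : a ∧ b := ⟨ha, h ha⟩

/-- the fixed points of `e` inside `Y` -/
def fixIn (e : R) (Y : Submodule R M) : AddSubgroup M where
  carrier := {x | x ∈ Y ∧ e • x = x}
  zero_mem' := ⟨zero_mem _, smul_zero e⟩
  add_mem' := fun {a b} ha hb => ⟨add_mem ha.1 hb.1, by rw [smul_add, ha.2, hb.2]⟩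
  neg_mem' := fun {a} ha => ⟨neg_mem ha.1, by rw [smul_neg, ha.2]⟩

theorem card_le_of_cover_id [Finite M] {e : R} (he : ∀ x : M, e • e • x = e • x) {A B : Submodule R M} (hAB : A ≤ B)
    (h : ∀ y ∈ B, e • y - y ∈ A) :
    Nat.card (fixIn e B) * Nat.card A = Nat.card (fixIn e A) * Nat.card B := by
  let f : fixIn e B × A →+ B :=
    { toFun := fun q => ⟨(q.1 : M) + q.2, add_mem q.1.2.1 (hAB q.2.2)⟩
      map_zero' := Subtype.ext (by simp)
      map_add' := fun q r => Subtype.ext (by simp [add_add_add_comm]) }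
  have hf : Function.Surjective f := fun ⟨y, hy⟩ =>
    ⟨(⟨e • y, B.smul_mem e hy, he y⟩, ⟨y - e • y, by rw [← neg_sub]; exact neg_mem (h y hy)⟩), Subtype.ext (by simp [f])⟩
  have hk : f.ker ≃ fixIn e A :=
    { toFun := fun q => ⟨(q.1.1 : M), by
        have h : (q.1.1 : M) + q.1.2 = 0 := congrArg Subtype.val q.2
        exact ⟨by rw [eq_neg_of_add_eq_zero_left h]; exact neg_mem q.1.2.2, q.1.1.2.2⟩⟩
      invFun := fun v => ⟨(⟨v, hAB v.2.1, v.2.2⟩, ⟨-(v : M), neg_mem v.2.1⟩), Subtype.ext (by simp [f])⟩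
      left_inv := fun q => by
        have h : (q.1.1 : M) + q.1.2 = 0 := congrArg Subtype.val q.2
        exact Subtype.ext (Prod.ext rfl (Subtype.ext (neg_eq_of_add_eq_zero_right h)))
      right_inv := fun v => rfl }
  rw [← Nat.card_prod, AddSubgroup.card_eq_card_quotient_mul_card_addSubgroup f.ker,
    Nat.card_congr (QuotientAddGroup.quotientKerEquivOfSurjective f hf).toEquiv, Nat.card_congr hk, mul_comm]

/-- a number dividing covers gives powers -/
theorem card_fixIn_pow [Finite M] {e : R} (he : ∀ x : M, e • e • x = e • x) (d : ℕ)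
    (hd : ∀ A B : Submodule R M, A ⋖ B → (∀ y ∈ B, e • y ∈ A) ∨
      ((∀ y ∈ B, e • y - y ∈ A) ∧ Nat.card B = d * Nat.card A))
    (Y : Submodule R M) : ∃ k, Nat.card (fixIn e Y) = d ^ k := by
  haveI : Finite (Submodule R M) := Finite.of_injective (fun S : Submodule R M => (S : Set M)) SetLike.coe_injective
  induction hn : Nat.card Y using Nat.strong_induction_on generalizing Y with
  | _ n ih =>
  subst hn
  rcases eq_or_ne Y ⊥ with rfl | hY
  · refine ⟨0, ?_⟩
    rw [pow_zero, Nat.card_eq_one_iff_unique]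
    exact ⟨⟨fun a b => Subtype.ext (((Submodule.mem_bot R).1 a.2.1).trans ((Submodule.mem_bot R).1 b.2.1).symm)⟩,
      ⟨⟨0, zero_mem _⟩⟩⟩
  obtain ⟨A, hA⟩ : ∃ A, A ⋖ Y := by
    obtain ⟨A, hA1, hA2⟩ := Finite.exists_le_maximal (p := fun A : Submodule R M => A < Y) (a := ⊥) (bot_lt_iff_ne_bot.2 hY)
    exact ⟨A, hA2.1, fun B hB hB' => hA2.not_gt hB' hB⟩
  have hlt : Nat.card A < Nat.card Y := (Set.toFinite (Y : Set M)).card_lt_card hA.lt
  obtain ⟨k, hk⟩ := ih _ hlt A rfl
  rcases hd A Y hA with h | ⟨h, hc⟩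
  · refine ⟨k, hk ▸ Nat.card_congr ⟨fun x => ⟨x, ?_, x.2.2⟩, fun x => ⟨x, hA.le x.2.1, x.2.2⟩, fun _ => rfl, fun _ => rfl⟩⟩
    have := h _ x.2.1
    rwa [x.2.2] at this
  · refine ⟨k + 1, ?_⟩
    have := card_le_of_cover_id he hA.le h
    rw [hc, hk, ← mul_assoc, ← pow_succ] at this
    exact Nat.eq_of_mul_eq_mul_right Nat.card_pos this

theorem exists_idem [Finite M] {A B : Submodule R M} (hAB : A ⋖ B) :
    ∃ e : R, (∀ x : M, e • e • x = e • x) ∧ (∀ y ∈ B, e • y - y ∈ A) ∧
      ∃ d : ℕ, Nat.card B = d * Nat.card A ∧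
        (∀ A' B' : Submodule R M, A' ⋖ B' → (∀ y ∈ B', e • y ∈ A') ∨
          ((∀ y ∈ B', e • y - y ∈ A') ∧ Nat.card B' = d * Nat.card A')) ∧
        ∀ Y : Submodule R M, ∃ k, Nat.card (fixIn e Y) = d ^ k := by
  classical
  let Q : { q : Submodule R M × Submodule R M // q.1 ⋖ q.2 } → Type v :=
    fun q => ↥q.1.2 ⧸ Submodule.comap q.1.2.subtype q.1.1
  haveI hs : ∀ q, IsSimpleModule R (Q q) := fun q => (covBy_iff_quot_is_simple q.2.le).1 q.2
  haveI : Finite (Submodule R M) := Finite.of_injective (fun S : Submodule R M => (S : Set M)) SetLike.coe_injective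
  haveI : IsSemisimpleModule R (∀ q, Q q) := inferInstance
  let q₀ : { q : Submodule R M × Submodule R M // q.1 ⋖ q.2 } := ⟨(A, B), hAB⟩
  let f : Module.End (Module.End R (∀ q, Q q)) (∀ q, Q q) :=
    { toFun := fun x q => if Nonempty (Q q ≃ₗ[R] Q q₀) then x q else 0
      map_add' := fun x y => by funext q; by_cases hq : Nonempty (Q q ≃ₗ[R] Q q₀) <;> simp [hq]
      map_smul' := fun g x => by
        funext q
        have key : ∀ q', ¬ (Nonempty (Q q ≃ₗ[R] Q q₀) ↔ Nonempty (Q q' ≃ₗ[R] Q q₀)) → ∀ z : Q q',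
            g (Pi.single q' z) q = 0 := by
          intro q' hne z
          rcases LinearMap.bijective_or_eq_zero ((LinearMap.proj q).comp (g.comp (LinearMap.single R Q q'))) with hb | h0
          · exact absurd ⟨fun ⟨t⟩ => ⟨(LinearEquiv.ofBijective _ hb).trans t⟩,
              fun ⟨t⟩ => ⟨(LinearEquiv.ofBijective _ hb).symm.trans t⟩⟩ hne
          · exact congr($h0 z)
        haveI := Fintype.ofFinite { q : Submodule R M × Submodule R M // q.1 ⋖ q.2 }
        show (if _ then g x q else 0) = g _ q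
        conv_lhs => rw [← Finset.univ_sum_single x, map_sum, Finset.sum_apply]
        conv_rhs => rw [← Finset.univ_sum_single (fun q => if Nonempty (Q q ≃ₗ[R] Q q₀) then x q else 0), map_sum,
          Finset.sum_apply]
        by_cases hq : Nonempty (Q q ≃ₗ[R] Q q₀)
        · rw [if_pos hq]
          refine Finset.sum_congr rfl fun q' _ => ?_
          by_cases hq' : Nonempty (Q q' ≃ₗ[R] Q q₀)
          · rw [if_pos hq']
          · rw [if_neg hq', Pi.single_zero, map_zero]
            exact key q' (by simp [hq, hq']) _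
        · rw [if_neg hq]
          refine (Finset.sum_eq_zero fun q' _ => ?_).symm
          by_cases hq' : Nonempty (Q q' ≃ₗ[R] Q q₀)
          · rw [if_pos hq']; exact key q' (by simp [hq, hq']) _
          · rw [if_neg hq', Pi.single_zero, map_zero]; rfl }
  haveI : ∀ q, Finite (Q q) := fun q => Quotient.finite _
  haveI := Fintype.ofFinite (∀ q, Q q)
  obtain ⟨r, hr⟩ := jacobson_density f Finset.univ
  have hr1 : ∀ (q : { q : Submodule R M × Submodule R M // q.1 ⋖ q.2 }) (z : Q q),
      r • z = if Nonempty (Q q ≃ₗ[R] Q q₀) then z else 0 := by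
    intro q z
    have := congrFun (hr (Pi.single q z) (Finset.mem_univ _)) q
    simpa [f, Pi.single_eq_same] using this.symm
  haveI : Finite (AddMonoid.End M) := Finite.of_injective (β := M → M) (fun f => ⇑f) DFunLike.coe_injective
  obtain ⟨n, hn, hne⟩ := exists_pow_idem (Module.toAddMonoidEnd R M r)
  rw [← map_pow] at hne
  have hq : ∀ (q : { q : Submodule R M × Submodule R M // q.1 ⋖ q.2 }) (z : Q q) (t : ℕ), 0 < t →
      r ^ t • z = if Nonempty (Q q ≃ₗ[R] Q q₀) then z else 0 := by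
    intro q z t ht
    induction t, ht using Nat.le_induction with
    | base => rw [pow_one]; exact hr1 q z
    | succ t _ ih => rw [pow_succ', mul_smul, ih]; split_ifs with h <;> simp [hr1, h]
  have hmk : ∀ (q : { q : Submodule R M × Submodule R M // q.1 ⋖ q.2 }) (y : M) (hy : y ∈ q.1.2),
      if Nonempty (Q q ≃ₗ[R] Q q₀) then r ^ n • y - y ∈ q.1.1 else r ^ n • y ∈ q.1.1 := by
    intro q y hy
    have h := hq q (Submodule.Quotient.mk ⟨y, hy⟩) n hn
    split_ifs at h ⊢
    · exact (Submodule.Quotient.eq (Submodule.comap q.1.2.subtype q.1.1)).1 h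
    · exact (Submodule.Quotient.mk_eq_zero (Submodule.comap q.1.2.subtype q.1.1)).1 h
  have hcardq : ∀ q : { q : Submodule R M × Submodule R M // q.1 ⋖ q.2 },
      Nat.card q.1.2 = Nat.card (Q q) * Nat.card q.1.1 := fun q => by
    rw [Submodule.card_eq_card_quotient_mul_card (Submodule.comap q.1.2.subtype q.1.1),
      Nat.card_congr (Submodule.comapSubtypeEquivOfLe q.2.le).toEquiv, mul_comm]
  have he : ∀ x : M, r ^ n • r ^ n • x = r ^ n • x := fun x => congr($hne x)
  refine ⟨r ^ n, he, fun y hy => ?_, Nat.card (Q q₀), hcardq q₀,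
    and_imp_self (card_fixIn_pow he _) fun A' B' hAB' => ?_⟩
  · have := hmk q₀ y hy
    rwa [if_pos ⟨LinearEquiv.refl R _⟩] at this
  · by_cases hiso : Nonempty (Q ⟨(A', B'), hAB'⟩ ≃ₗ[R] Q q₀)
    · refine Or.inr ⟨fun y hy => ?_, ?_⟩
      · have := hmk ⟨(A', B'), hAB'⟩ y hy
        rwa [if_pos hiso] at this
      · rw [← Nat.card_congr hiso.some.toEquiv]
        exact hcardq ⟨(A', B'), hAB'⟩
    · refine Or.inl fun y hy => ?_
      have := hmk ⟨(A', B'), hAB'⟩ y hy
      rwa [if_neg hiso] at this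

end CfsgLib.PGroups.SFree
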