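import Cfsg.Agent.Lib.PGroups.SFree.Basic
import Mathlib.Data.Set.Card
import Mathlib.Data.Finite.Prod

/-!
# Two conjugates with different fixed-point labels

For a class of subgroups `A^H`, the label of a Sylow subgroup `T` is the span `phi T` of the fixed points of all Sylow
subgroups containing the same members as `T`. If `A ≤ T` does not fix the orbit of `C_V(T)`, then some subgroup
`L = ⟨D, D^l⟩` generated by two conjugates is generated by `D` and `D^k` whenever `k ∈ L` moves the label of `D`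
(`exists_two_gen`).
-/

set_option autoImplicit false

namespace CfsgLib.PGroups.SFree

open Subgroup

universe u v

variable {H : Type u} [Group H] {V : Type v} [AddCommGroup V]

/-- the conjugates of `A` inside `P` -/
def mems (A P : Subgroup H) : Set (Subgroup H) :=
  {D | (∃ g : H, D = A.map (MulAut.conj g).toMonoidHom) ∧ D ≤ P}

theorem map_conj_map (D : Subgroup H) (g k : H) :
    (D.map (MulAut.conj k).toMonoidHom).map (MulAut.conj g).toMonoidHom = D.map (MulAut.conj (g * k)).toMonoidHom := by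
  rw [Subgroup.map_map]
  congr 1
  ext x
  simp [mul_assoc]

theorem map_conj_one (D : Subgroup H) : D.map (MulAut.conj (1 : H)).toMonoidHom = D := by
  ext x; simp [Subgroup.mem_map]

theorem map_conj_inv_map (D : Subgroup H) (g : H) :
    (D.map (MulAut.conj g⁻¹).toMonoidHom).map (MulAut.conj g).toMonoidHom = D := by
  rw [map_conj_map, mul_inv_cancel, map_conj_one]

theorem mems_smul {p : ℕ} (A : Subgroup H) (g : H) (T : Sylow p H) :
    mems A ((g • T : Sylow p H) : Subgroup H) = (fun D => D.map (MulAut.conj g).toMonoidHom) '' mems A T := by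
  ext D
  constructor
  · rintro ⟨⟨k, rfl⟩, hD⟩
    refine ⟨A.map (MulAut.conj (g⁻¹ * k)).toMonoidHom, ⟨⟨_, rfl⟩, ?_⟩, ?_⟩
    · intro x hx
      obtain ⟨a, ha, rfl⟩ := hx
      obtain ⟨t, ht, hte⟩ := hD ⟨a, ha, rfl⟩
      change g * t * g⁻¹ = k * a * k⁻¹ at hte
      show g⁻¹ * k * a * (g⁻¹ * k)⁻¹ ∈ (T : Subgroup H)
      rw [show g⁻¹ * k * a * (g⁻¹ * k)⁻¹ = g⁻¹ * (k * a * k⁻¹) * g by group, ← hte,
        show g⁻¹ * (g * t * g⁻¹) * g = t by group]
      exact ht
    · show (A.map _).map _ = _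
      rw [map_conj_map, mul_inv_cancel_left]
  · rintro ⟨D, ⟨⟨k, rfl⟩, hD⟩, rfl⟩
    exact ⟨⟨g * k, map_conj_map A g k⟩, Subgroup.map_mono hD⟩

theorem map_conj_injective (g : H) : Function.Injective (fun D : Subgroup H => D.map (MulAut.conj g).toMonoidHom) :=
  Subgroup.map_injective (MulAut.conj g).injective

variable (act : H →* AddMonoid.End V)

/-- the label of a Sylow subgroup -/
def phi (A : Subgroup H) (T : Sylow 2 H) : AddSubgroup V :=
  ⨆ T' : {T' : Sylow 2 H // mems A T' = mems A T}, fixS act ((T' : Sylow 2 H) : Subgroup H)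

theorem fixS_le_phi (A : Subgroup H) (T : Sylow 2 H) : fixS act (T : Subgroup H) ≤ phi act A T :=
  le_iSup_of_le ⟨T, rfl⟩ le_rfl

theorem phi_le_fixS {A : Subgroup H} {T : Sylow 2 H} {D : Subgroup H} (hD : D ∈ mems A T) :
    phi act A T ≤ fixS act D :=
  iSup_le fun T' => fixS_anti act (T'.2.symm ▸ hD : D ∈ mems A (T' : Sylow 2 H)).2

theorem phi_congr {A : Subgroup H} {T T' : Sylow 2 H} (h : mems A T = mems A T') : phi act A T = phi act A T' :=
  le_antisymm (iSup_le fun S => le_iSup_of_le ⟨S, S.2.trans h⟩ le_rfl)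
    (iSup_le fun S => le_iSup_of_le ⟨S, S.2.trans h.symm⟩ le_rfl)

theorem map_fixS (g : H) (S : Subgroup H) :
    (fixS act S).map (act g) ≤ fixS act (S.map (MulAut.conj g).toMonoidHom) := by
  rintro _ ⟨x, hx, rfl⟩ _ ⟨s, hs, rfl⟩
  show act (g * s * g⁻¹) (act g x) = act g x
  rw [act_mul, act_mul, act_inv, hx s hs]

theorem phi_smul (A : Subgroup H) (g : H) (T : Sylow 2 H) : phi act A (g • T) = (phi act A T).map (act g) := by
  have h : ∀ (k : H) (T : Sylow 2 H), (phi act A T).map (act k) ≤ phi act A (k • T) := by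
    intro k T
    refine AddSubgroup.map_le_iff_le_comap.2 (iSup_le fun T' => AddSubgroup.map_le_iff_le_comap.1 ?_)
    exact (map_fixS act k _).trans
      (le_iSup_of_le ⟨k • (T' : Sylow 2 H), by rw [mems_smul, mems_smul, T'.2]⟩ le_rfl)
  refine le_antisymm (fun y hy => ?_) (h g T)
  have := h g⁻¹ (g • T) ⟨y, hy, rfl⟩
  rw [inv_smul_smul] at this
  exact ⟨_, this, act_inv' act g y⟩

theorem le_stabY_phi [Finite V] (A : Subgroup H) (T : Sylow 2 H) : (T : Subgroup H) ≤ stabY act (phi act A T) := by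
  intro t ht y hy
  have h : t • T = T := Sylow.smul_eq_iff_mem_normalizer.2 (Subgroup.le_normalizer ht)
  have := phi_smul act A t T
  rw [h] at this
  rw [this]
  exact ⟨y, hy, rfl⟩

variable [Finite H] [Finite V]

theorem ncard_mems_eq (A : Subgroup H) (T T' : Sylow 2 H) : (mems A T).ncard = (mems A T').ncard := by
  haveI : Fact (Nat.Prime 2) := ⟨Nat.prime_two⟩
  obtain ⟨g, rfl⟩ := MulAction.exists_smul_eq H T T'
  rw [mems_smul, Set.ncard_image_of_injective _ (map_conj_injective g)]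

/-- the stabiliser of a set of subgroups -/
def stabSet (R : Set (Subgroup H)) : Subgroup H where
  carrier := {g | (fun D : Subgroup H => D.map (MulAut.conj g).toMonoidHom) '' R = R}
  one_mem' := by
    show _ '' R = R
    simp only [map_conj_one, Set.image_id']
  mul_mem' := fun {g k} hg hk => by
    show _ '' R = R
    conv_rhs => rw [← (hg : _ '' R = R), ← (hk : _ '' R = R)]
    rw [Set.image_image]
    simp only [map_conj_map]
  inv_mem' := fun {g} hg => by
    show _ '' R = R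
    conv_lhs => rw [← (hg : _ '' R = R)]
    rw [Set.image_image]
    simp only [map_conj_map, inv_mul_cancel, map_conj_one, Set.image_id']

variable {act} in
/-- The two conjugates. -/
theorem exists_two_gen {A : Subgroup H} {T₀ : Sylow 2 H} (hA : A ≤ T₀) {x : V}
    (hx : x ∈ fixS act (T₀ : Subgroup H)) {h : H} {a : H} (ha : a ∈ A) (hmove : act a (act h x) ≠ act h x) :
    ∃ (D : Subgroup H) (T : Sylow 2 H) (L : Subgroup H) (l : H),
      D ∈ mems A T ∧ l ∈ L ∧ L = D ⊔ D.map (MulAut.conj l).toMonoidHom ∧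
      (phi act A T).map (act l) ≠ phi act A T ∧
      ∀ k ∈ L, (phi act A T).map (act k) ≠ phi act A T → D ⊔ D.map (MulAut.conj k).toMonoidHom = L := by
  classical
  haveI : Fact (Nat.Prime 2) := ⟨Nat.prime_two⟩
  have hne : phi act A T₀ ≠ phi act A (h • T₀) := by
    intro he
    refine hmove (phi_le_fixS act (D := A) ⟨⟨1, (map_conj_one A).symm⟩, hA⟩ (he.ge ?_) a ha)
    rw [phi_smul]
    exact ⟨x, fixS_le_phi act A T₀ hx, rfl⟩
  haveI := Fintype.ofFinite (Sylow 2 H)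
  obtain ⟨⟨T₁, T₂⟩, hT, hmax⟩ := Finset.exists_max_image
    (Finset.univ.filter fun q : Sylow 2 H × Sylow 2 H => phi act A q.1 ≠ phi act A q.2)
    (fun q => (mems A q.1 ∩ mems A q.2).ncard) ⟨(T₀, h • T₀), by simp [hne]⟩
  simp only [Finset.mem_filter, Finset.mem_univ, true_and] at hT hmax
  obtain ⟨R, hR⟩ : ∃ R, R = mems A T₁ ∩ mems A T₂ := ⟨_, rfl⟩
  rw [← hR] at hmax
  obtain ⟨X, hX⟩ : ∃ X, X = stabSet R := ⟨_, rfl⟩
  -- Sylow subgroups sharing more than `R` have the same label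
  have huniq : ∀ {T T' : Sylow 2 H} {D : Subgroup H}, R ⊆ mems A T → R ⊆ mems A T' → D ∈ mems A T → D ∈ mems A T' →
      D ∉ R → phi act A T = phi act A T' := by
    intro T T' D hT hT' hD hD' hDR
    by_contra hne'
    refine absurd (hmax (T, T') hne') (not_le.2 (Set.ncard_lt_ncard ?_ (Set.toFinite _)))
    exact ⟨Set.subset_inter hT hT', fun hs => hDR (hs ⟨hD, hD'⟩)⟩
  obtain ⟨W, hW⟩ : ∃ W, W = ⨆ D ∈ R, D := ⟨_, rfl⟩
  have hW2 : IsPGroup 2 W := by
    refine T₁.2.to_le ?_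
    rw [hW]; exact iSup₂_le fun D hD => ((hR ▸ hD : D ∈ mems A T₁ ∩ mems A T₂).1).2
  have hXW : X ≤ normalizer (W : Set H) := by
    intro g hg
    rw [hX] at hg
    rw [Subgroup.mem_normalizer_iff_map_conj_eq, hW, Subgroup.map_iSup]
    simp only [Subgroup.map_iSup]
    conv_rhs => rw [← (hg : _ '' R = R)]
    rw [iSup_image]
    rfl
  -- a `2`-subgroup of `X` lies in a Sylow subgroup containing `R`
  have hext : ∀ P ≤ X, IsPGroup 2 P → ∃ T : Sylow 2 H, P ≤ T ∧ R ⊆ mems A T := by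
    intro P hPX hP
    obtain ⟨T, hT⟩ := (IsPGroup.to_sup_of_normal_right' hP hW2 (hPX.trans hXW)).exists_le_sylow
    refine ⟨T, le_sup_left.trans hT, fun D hD => ⟨((hR ▸ hD : D ∈ mems A T₁ ∩ mems A T₂).1).1, ?_⟩⟩
    exact le_trans (le_trans (hW ▸ le_iSup₂ (f := fun D (_ : D ∈ R) => D) D hD) le_sup_right) hT
  have hconj : ∀ k ∈ X, ∀ T : Sylow 2 H, R ⊆ mems A T → R ⊆ mems A ((k • T : Sylow 2 H) : Subgroup H) := by
    intro k hk T hT
    rw [mems_smul]
    rw [hX] at hk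
    calc R = _ '' R := (hk : _ '' R = R).symm
      _ ⊆ _ := Set.image_mono hT
  have hnotR : ∀ k ∈ X, ∀ D ∉ R, D.map (MulAut.conj k).toMonoidHom ∉ R := by
    intro k hk D hD hmem
    rw [hX] at hk
    rw [← (hk : _ '' R = R)] at hmem
    obtain ⟨E, hE, he⟩ := hmem
    exact hD (map_conj_injective k he ▸ hE)
  -- members outside `R` in both intersections with `X`
  have hside : ∀ T : Sylow 2 H, (T = T₁ ∨ T = T₂) → ∃ D ∈ mems A T, D ≤ X ∧ D ∉ R := by
    intro T hTT
    have hRT : R ⊆ mems A T := by rcases hTT with rfl | rfl <;> rw [hR]; exacts [Set.inter_subset_left, Set.inter_subset_right]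
    by_contra hcon
    push Not at hcon
    have hRX : ∀ D ∈ R, D ≤ X := by
      intro D hD d hd
      rw [hR] at hD
      rw [hX, hR]
      show _ '' (_ ∩ _) = _
      rw [Set.image_inter (map_conj_injective d), ← mems_smul, ← mems_smul,
        Sylow.smul_eq_iff_mem_normalizer.2 (Subgroup.le_normalizer (hD.1.2 hd)), Sylow.smul_eq_iff_mem_normalizer.2 (Subgroup.le_normalizer (hD.2.2 hd))]
    obtain ⟨P, hP⟩ : ∃ P, P = (T : Subgroup H) ⊓ X := ⟨_, rfl⟩
    have hmemP : mems A P = R := by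
      refine Set.Subset.antisymm (fun D hD => hcon D ⟨hD.1, hD.2.trans (hP ▸ inf_le_left)⟩ (hD.2.trans (hP ▸ inf_le_right))) ?_
      exact fun D hD => ⟨(hRT hD).1, hP ▸ le_inf (hRT hD).2 (hRX D hD)⟩
    have hPT : (T : Subgroup H) ≤ X := by
      haveI : Group.IsNilpotent (T : Subgroup H) := T.2.isNilpotent
      have hnc := normalizerCondition_of_isNilpotent (G := ↥(T : Subgroup H)) (X.subgroupOf T)
      by_contra hle
      have hlt : X.subgroupOf (T : Subgroup H) < ⊤ := lt_top_iff_ne_top.2 fun e => hle (Subgroup.subgroupOf_eq_top.1 e)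
      obtain ⟨t, htN, htX⟩ := SetLike.exists_of_lt (hnc hlt)
      apply htX
      show (t : H) ∈ X
      have hnP : P.map (MulAut.conj (t : H)).toMonoidHom = P := by
        refine Subgroup.eq_of_le_of_card_ge ?_ (Subgroup.card_map_of_injective (MulAut.conj (t : H)).injective).ge
        rintro _ ⟨y, hy, rfl⟩
        rw [hP] at hy ⊢
        refine ⟨(T : Subgroup H).mul_mem ((T : Subgroup H).mul_mem t.2 hy.1) ((T : Subgroup H).inv_mem t.2), ?_⟩
        exact (((Subgroup.mem_normalizer_iff).1 htN ⟨y, hy.1⟩).1 hy.2 :)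
      rw [hX]
      show _ '' R = R
      refine Set.eq_of_subset_of_ncard_le ?_ (Set.ncard_image_of_injective _ (map_conj_injective _)).ge (Set.toFinite _)
      rintro _ ⟨D, hD, rfl⟩
      rw [← hmemP] at hD ⊢
      obtain ⟨⟨g, rfl⟩, hD2⟩ := hD
      exact ⟨⟨(t : H) * g, map_conj_map A t g⟩, (Subgroup.map_mono hD2).trans hnP.le⟩
    have hall : mems A T = R := by
      rw [← hmemP, hP, inf_eq_left.2 hPT]
    have h1 : mems A T₁ = R := by
      refine (Set.eq_of_subset_of_ncard_le (hR ▸ Set.inter_subset_left) ?_ (Set.toFinite _)).symm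
      rw [← hall, ncard_mems_eq A T T₁]
    have h2 : mems A T₂ = R := by
      refine (Set.eq_of_subset_of_ncard_le (hR ▸ Set.inter_subset_right) ?_ (Set.toFinite _)).symm
      rw [← hall, ncard_mems_eq A T T₂]
    apply hT
    have he : mems A T₁ = mems A T₂ := h1.trans h2.symm
    exact phi_congr act he
  -- minimal generated subgroup
  let Good : Subgroup H → Sylow 2 H → Prop := fun D T => D ∈ mems A T ∧ R ⊆ mems A T ∧ D ≤ X ∧ D ∉ R
  obtain ⟨D₁, hD₁, hD₁X, hD₁R⟩ := hside T₁ (Or.inl rfl)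
  obtain ⟨D₂, hD₂, hD₂X, hD₂R⟩ := hside T₂ (Or.inr rfl)
  have hG₁ : Good D₁ T₁ := ⟨hD₁, hR ▸ Set.inter_subset_left, hD₁X, hD₁R⟩
  have hG₂ : Good D₂ T₂ := ⟨hD₂, hR ▸ Set.inter_subset_right, hD₂X, hD₂R⟩
  obtain ⟨L, -, hmin⟩ := Finite.exists_le_minimal (p := fun L : Subgroup H => ∃ D E TD TE, Good D TD ∧ Good E TE ∧
      phi act A TD ≠ phi act A TE ∧ D ⊔ E = L) (a := D₁ ⊔ D₂) ⟨D₁, D₂, T₁, T₂, hG₁, hG₂, hT, rfl⟩
  obtain ⟨D, E, TD, TE, hD, hE, hDE, hL⟩ := hmin.1
  have hLX : L ≤ X := hL ▸ sup_le hD.2.2.1 hE.2.2.1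
  have hGconj : ∀ {D T}, Good D T → ∀ k ∈ L, Good (D.map (MulAut.conj k).toMonoidHom) (k • T) := by
    intro D T hD k hk
    refine ⟨?_, hconj k (hLX hk) T hD.2.1, ?_, hnotR k (hLX hk) D hD.2.2.2⟩
    · rw [mems_smul]; exact ⟨D, hD.1, rfl⟩
    · rintro _ ⟨d, hd, rfl⟩
      exact X.mul_mem (X.mul_mem (hLX hk) (hD.2.2.1 hd)) (X.inv_mem (hLX hk))
  have hgen : ∀ {D T}, Good D T → D ≤ L → ∀ k ∈ L, (phi act A T).map (act k) ≠ phi act A T →
      D ⊔ D.map (MulAut.conj k).toMonoidHom = L := by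
    intro D T hD hDL k hk hne
    refine hmin.eq_of_le ⟨D, _, T, _, hD, hGconj hD k hk, ?_, rfl⟩ (sup_le hDL ?_)
    · rw [phi_smul]; exact fun e => hne e.symm
    · rintro _ ⟨d, hd, rfl⟩
      exact L.mul_mem (L.mul_mem hk (hDL hd)) (L.inv_mem hk)
  by_cases hDc : ∃ k ∈ L, (phi act A TD).map (act k) ≠ phi act A TD
  · obtain ⟨k, hk, hkne⟩ := hDc
    exact ⟨D, TD, L, k, hD.1, hk, (hgen hD (hL ▸ le_sup_left) k hk hkne).symm, hkne, hgen hD (hL ▸ le_sup_left)⟩
  by_cases hEc : ∃ k ∈ L, (phi act A TE).map (act k) ≠ phi act A TE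
  · obtain ⟨k, hk, hkne⟩ := hEc
    exact ⟨E, TE, L, k, hE.1, hk, (hgen hE (hL ▸ le_sup_right) k hk hkne).symm, hkne, hgen hE (hL ▸ le_sup_right)⟩
  push Not at hDc hEc
  exfalso
  have hDL : D ≤ L := hL ▸ le_sup_left
  have hEL : E ≤ L := hL ▸ le_sup_right
  obtain ⟨S₁, hS₁⟩ := ((TD.2.to_le hD.1.2).comap_subtype (K := L)).exists_le_sylow
  obtain ⟨S₂, hS₂⟩ := ((TE.2.to_le hE.1.2).comap_subtype (K := L)).exists_le_sylow
  obtain ⟨k, hk⟩ := MulAction.exists_smul_eq L S₂ S₁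
  obtain ⟨T, hST, hRT⟩ := hext ((S₁ : Subgroup L).map L.subtype)
    ((Subgroup.map_subtype_le _).trans hLX) (S₁.2.map _)
  have hDT : D ≤ (T : Subgroup H) := fun d hd => hST ⟨⟨d, hDL hd⟩, hS₁ hd, rfl⟩
  have hET : E.map (MulAut.conj (k : H)).toMonoidHom ≤ (T : Subgroup H) := by
    rintro _ ⟨e, he, rfl⟩
    refine hST ⟨k * ⟨e, hEL he⟩ * k⁻¹, ?_, rfl⟩
    rw [← hk]
    exact ⟨⟨e, hEL he⟩, hS₂ he, rfl⟩
  have hE' := hGconj hE k k.2
  have e1 := huniq hD.2.1 hRT hD.1 ⟨hD.1.1, hDT⟩ hD.2.2.2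
  have e2 := huniq hE'.2.1 hRT hE'.1 ⟨hE'.1.1, hET⟩ hE'.2.2.2
  rw [phi_smul, hEc k k.2] at e2
  exact hDE (e1.trans e2.symm)

end CfsgLib.PGroups.SFree
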