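import Cfsg.Agent.Lib.PGroups.SFree.Labels
import Cfsg.Agent.Lib.LocalEven.OffenderStep
import Cfsg.Agent.Lib.LocalEven.SFour

/-!
# The subgroup generated by two conjugates

Consequences of the two-generation: the elements fixing all labels stabilise a chain, the others act freely, and the
composition factors of the module are large unless a section `S₃` appears.
-/

set_option autoImplicit false

namespace CfsgLib.PGroups.SFree

open Subgroup

universe u v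

variable {H : Type u} [Group H] {V : Type v} [AddCommGroup V]

/-- The data. -/
structure Loc (H : Type u) [Group H] (V : Type v) [AddCommGroup V] where
  act : H →* AddMonoid.End V
  A : Subgroup H
  T : Sylow 2 H
  D : Subgroup H
  L : Subgroup H
  l : H
  h2 : ∀ x : V, x + x = 0
  hD : D ∈ mems A T
  hl : l ∈ L
  hL : L = D ⊔ D.map (MulAut.conj l).toMonoidHom
  hne : (phi act A T).map (act l) ≠ phi act A T
  hgen : ∀ k ∈ L, (phi act A T).map (act k) ≠ phi act A T → D ⊔ D.map (MulAut.conj k).toMonoidHom = L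
  quad : Quad act D
  best : ∀ B ≤ D, offM act B ≤ offM act D

namespace Loc

variable (d : Loc H V)

/-- the label -/
def Φ : AddSubgroup V := phi d.act d.A d.T
/-- the fixed points of `L` -/
def C : AddSubgroup V := fixS d.act d.L
/-- the fixed points of `D` -/
def U : AddSubgroup V := fixS d.act d.D
/-- the fixed points of a conjugate of `D` -/
def Uc (k : H) : AddSubgroup V := fixS d.act (d.D.map (MulAut.conj k).toMonoidHom)
/-- the span of the labels and the fixed points -/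
def X : AddSubgroup V := (⨆ k : d.L, d.Φ.map (d.act (k : H))) ⊔ d.C
/-- `k` moves the label -/
def Mv (k : H) : Prop := k ∈ d.L ∧ d.Φ.map (d.act k) ≠ d.Φ
/-- invariant under `L` -/
def Inv (Y : AddSubgroup V) : Prop := ∀ k ∈ d.L, ∀ y ∈ Y, d.act k y ∈ Y

theorem D_le : d.D ≤ d.L := d.hL ▸ le_sup_left

theorem conj_le {k : H} (hk : k ∈ d.L) : d.D.map (MulAut.conj k).toMonoidHom ≤ d.L := by
  rintro _ ⟨a, ha, rfl⟩
  exact d.L.mul_mem (d.L.mul_mem hk (d.D_le ha)) (d.L.inv_mem hk)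

theorem mv_l : d.Mv d.l := ⟨d.hl, d.hne⟩

theorem phi_le_U : d.Φ ≤ d.U := phi_le_fixS d.act d.hD

theorem map_U_le (k : H) : d.U.map (d.act k) ≤ d.Uc k := map_fixS d.act k d.D

theorem mem_Uc {k : H} {x : V} : x ∈ d.Uc k ↔ d.act k⁻¹ x ∈ d.U := by
  constructor
  · intro h a ha
    have := h _ (Subgroup.mem_map_of_mem _ ha)
    change d.act (k * a * k⁻¹) x = x at this
    rw [act_mul, act_mul] at this
    conv_rhs => rw [← this, act_inv]
  · intro h
    exact d.map_U_le k ⟨_, h, act_inv' d.act k x⟩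

theorem C_le (S : Subgroup H) (hS : S ≤ d.L) : d.C ≤ fixS d.act S := fixS_anti d.act hS

theorem inf_Uc {k : H} (hk : d.Mv k) {x : V} (h1 : x ∈ d.U) (h2 : x ∈ d.Uc k) : x ∈ d.C := fun g hg => by
  have hle : d.L ≤ stabP d.act x := (d.hgen k hk.1 hk.2).ge.trans (sup_le h1 h2)
  exact hle hg

theorem act_C {k : H} (hk : k ∈ d.L) {c : V} (hc : c ∈ d.C) : d.act k c = c := hc k hk

theorem map_phi_le_X {k : H} (hk : k ∈ d.L) : d.Φ.map (d.act k) ≤ d.X :=
  le_sup_of_le_left (le_iSup (fun k : d.L => d.Φ.map (d.act (k : H))) ⟨k, hk⟩)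

theorem C_le_X : d.C ≤ d.X := le_sup_right

theorem phi_le_X : d.Φ ≤ d.X := fun x hx => d.map_phi_le_X d.L.one_mem ⟨x, hx, act_one d.act x⟩

theorem inv_X : d.Inv d.X := by
  intro k hk
  show d.X ≤ d.X.comap (d.act k)
  refine sup_le (iSup_le fun j => ?_) fun c hc => ?_
  · rintro _ ⟨x, hx, rfl⟩
    exact d.map_phi_le_X (d.L.mul_mem hk j.2) ⟨x, hx, act_mul d.act k j x⟩
  · show d.act k c ∈ d.X
    rw [d.act_C hk hc]
    exact d.C_le_X hc

theorem inv_sup {k : H} (hk : d.Mv k) {Y : AddSubgroup V} (hY : d.Inv Y) :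
    d.Inv ((Y ⊓ d.U) ⊔ (Y ⊓ d.Uc k)) := by
  obtain ⟨S, hS⟩ : ∃ S, S = (Y ⊓ d.U) ⊔ (Y ⊓ d.Uc k) := ⟨_, rfl⟩
  rw [← hS]
  have hSY : S ≤ Y := hS ▸ sup_le inf_le_left inf_le_left
  let St : Subgroup H :=
    { carrier := {g | g ∈ d.L ∧ (∀ y ∈ S, d.act g y ∈ S) ∧ ∀ y ∈ S, d.act g⁻¹ y ∈ S}
      one_mem' := ⟨d.L.one_mem, fun y hy => by rwa [act_one], fun y hy => by rwa [inv_one, act_one]⟩
      mul_mem' := fun {g g'} hg hg' => ⟨d.L.mul_mem hg.1 hg'.1, fun y hy => by rw [act_mul]; exact hg.2.1 _ (hg'.2.1 y hy),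
        fun y hy => by rw [mul_inv_rev, act_mul]; exact hg'.2.2 _ (hg.2.2 y hy)⟩
      inv_mem' := fun {g} hg => ⟨d.L.inv_mem hg.1, hg.2.2, by rw [inv_inv]; exact hg.2.1⟩ }
  have key : ∀ g ∈ d.L, (∀ y, d.act g y - y ∈ d.U) ∨ (∀ y, d.act g y - y ∈ d.Uc k) → ∀ y ∈ S, d.act g y ∈ S := by
    intro g hg h y hy
    rw [← sub_add_cancel (d.act g y) y]
    refine add_mem ?_ hy
    rw [hS]
    rcases h with h | h
    · exact AddSubgroup.mem_sup_left ⟨Y.sub_mem (hY g hg y (hSY hy)) (hSY hy), h y⟩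
    · exact AddSubgroup.mem_sup_right ⟨Y.sub_mem (hY g hg y (hSY hy)) (hSY hy), h y⟩
  have hA : d.D ≤ St := fun a ha =>
    ⟨d.D_le ha, key a (d.D_le ha) (Or.inl (d.quad a ha)), key _ (d.D_le (d.D.inv_mem ha)) (Or.inl (d.quad _ (d.D.inv_mem ha)))⟩
  have hq : ∀ a ∈ d.D, ∀ y, d.act (k * a * k⁻¹) y - y ∈ d.Uc k := fun a ha y => by
    rw [d.mem_Uc, map_sub, act_mul, act_mul, act_inv]
    exact d.quad a ha _
  have hB : d.D.map (MulAut.conj k).toMonoidHom ≤ St := by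
    rintro _ ⟨a, ha, rfl⟩
    refine ⟨d.conj_le hk.1 ⟨a, ha, rfl⟩, key _ (d.conj_le hk.1 ⟨a, ha, rfl⟩) (Or.inr (hq a ha)), ?_⟩
    have h1 : (k * a * k⁻¹)⁻¹ = k * a⁻¹ * k⁻¹ := by group
    show ∀ y ∈ S, d.act (k * a * k⁻¹)⁻¹ y ∈ S
    rw [h1]
    exact key _ (d.conj_le hk.1 ⟨a⁻¹, d.D.inv_mem ha, rfl⟩) (Or.inr (hq _ (d.D.inv_mem ha)))
  intro g hg y hy
  exact (((d.hgen k hk.1 hk.2).ge.trans (sup_le hA hB)) hg).2.1 y hy

theorem decompose_X {k : H} (hk : d.Mv k) {x : V} (hx : x ∈ d.X) :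
    ∃ u ∈ d.X ⊓ d.U, ∃ w ∈ d.X ⊓ d.Uc k, u + w = x := by
  refine AddSubgroup.mem_sup.1 ?_
  obtain ⟨S, hS⟩ : ∃ S, S = (d.X ⊓ d.U) ⊔ (d.X ⊓ d.Uc k) := ⟨_, rfl⟩
  rw [← hS]
  refine (sup_le (iSup_le fun j => ?_) fun c hc => ?_ : d.X ≤ S) hx
  · rintro _ ⟨y, hy, rfl⟩
    exact hS ▸ d.inv_sup hk d.inv_X j j.2 y (AddSubgroup.mem_sup_left ⟨d.phi_le_X hy, d.phi_le_U hy⟩)
  · exact hS ▸ AddSubgroup.mem_sup_left ⟨d.C_le_X hc, d.C_le _ d.D_le hc⟩

variable [Finite V]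

/-- the elements fixing all labels -/
def Q : Subgroup H := d.L ⊓ ⨅ k : d.L, stabY d.act (d.Φ.map (d.act (k : H)))

theorem mem_Q {q : H} : q ∈ d.Q ↔ q ∈ d.L ∧ ∀ k ∈ d.L, ∀ y ∈ d.Φ, ∃ z ∈ d.Φ, d.act q (d.act k y) = d.act k z := by
  rw [Q, Subgroup.mem_inf, Subgroup.mem_iInf]
  constructor
  · rintro ⟨h1, h2⟩
    refine ⟨h1, fun k hk y hy => ?_⟩
    obtain ⟨z, hz, e⟩ := h2 ⟨k, hk⟩ _ ⟨y, hy, rfl⟩
    exact ⟨z, hz, e.symm⟩
  · rintro ⟨h1, h2⟩
    refine ⟨h1, fun k => ?_⟩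
    rintro _ ⟨y, hy, rfl⟩
    obtain ⟨z, hz, e⟩ := h2 k k.2 y hy
    exact ⟨z, hz, e.symm⟩

theorem Q_conj {q k : H} (hq : q ∈ d.Q) (hk : k ∈ d.L) : k * q * k⁻¹ ∈ d.Q := by
  rw [mem_Q] at hq ⊢
  refine ⟨d.L.mul_mem (d.L.mul_mem hk hq.1) (d.L.inv_mem hk), fun j hj y hy => ?_⟩
  obtain ⟨z, hz, e⟩ := hq.2 (k⁻¹ * j) (d.L.mul_mem (d.L.inv_mem hk) hj) y hy
  refine ⟨z, hz, ?_⟩
  rw [act_mul d.act (k * q), act_mul d.act k, ← act_mul d.act k⁻¹ j, e, ← act_mul, mul_inv_cancel_left]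

theorem Q_stabilises {q : H} (hqD : q ∈ d.D) (hq : q ∈ d.Q) {x : V} (hx : x ∈ d.X) : d.act q x - x ∈ d.C := by
  have hle : d.X ≤ AddSubgroup.comap (d.act q - 1 : AddMonoid.End V) d.C := by
    refine sup_le (iSup_le fun k => ?_) fun c hc => ?_
    · rintro _ ⟨y, hy, rfl⟩
      show d.act q (d.act k y) - d.act k y ∈ d.C
      by_cases hk : d.Φ.map (d.act (k : H)) = d.Φ
      · have : d.act (k : H) y ∈ d.U := d.phi_le_U (hk ▸ ⟨y, hy, rfl⟩)
        rw [this q hqD, sub_self]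
        exact zero_mem _
      · obtain ⟨z, hz, e⟩ := (d.mem_Q.1 hq).2 k k.2 y hy
        refine d.inf_Uc (k := (k : H)) ⟨k.2, hk⟩ (d.quad q hqD _) ?_
        rw [e]
        exact sub_mem (d.map_U_le _ ⟨z, d.phi_le_U hz, rfl⟩) (d.map_U_le _ ⟨y, d.phi_le_U hy, rfl⟩)
    · show d.act q c - c ∈ d.C
      rw [d.act_C (d.D_le hqD) hc, sub_self]
      exact zero_mem _
  exact hle hx

theorem free {a : H} (haD : a ∈ d.D) (ha : a ∉ d.Q) {x : V} (hx : x ∈ d.X) (h : d.act a x - x ∈ d.C) : x ∈ d.U := by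
  obtain ⟨k, hk, hak⟩ : ∃ k ∈ d.L, ¬ ∀ y ∈ d.Φ, ∃ z ∈ d.Φ, d.act a (d.act k y) = d.act k z := by
    by_contra hc
    push Not at hc
    exact ha (d.mem_Q.2 ⟨d.D_le haD, hc⟩)
  have hkm : d.Mv k := ⟨hk, fun e => hak fun y hy => ⟨y, hy, (d.phi_le_U (e ▸ ⟨y, hy, rfl⟩)) a haD⟩⟩
  obtain ⟨u, hu, w, hw, rfl⟩ := d.decompose_X hkm hx
  rw [map_add, hu.2 a haD, add_sub_add_left_eq_sub] at h
  obtain ⟨j, hj⟩ : ∃ j, j = k⁻¹ * a⁻¹ * k := ⟨_, rfl⟩
  have hjm : d.Mv j := by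
    refine ⟨hj ▸ d.L.mul_mem (d.L.mul_mem (d.L.inv_mem hk) (d.L.inv_mem (d.D_le haD))) hk, fun e => hak fun y hy => ?_⟩
    obtain ⟨z, hz, he⟩ : y ∈ d.Φ.map (d.act j) := e.ge hy
    refine ⟨z, hz, ?_⟩
    rw [← he]
    exact (act_mul ..).symm.trans ((act_mul ..).symm.trans (congrArg (fun g => d.act g z) (by rw [hj]; group)))
  have h1 : d.act k⁻¹ w ∈ d.U := d.mem_Uc.1 hw.2
  have h3 : d.act j⁻¹ (d.act k⁻¹ w) = d.act k⁻¹ w + (d.act a w - w) := by
    have hd := d.act_C (d.L.inv_mem hk) h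
    rw [map_sub] at hd
    calc d.act j⁻¹ (d.act k⁻¹ w) = d.act k⁻¹ (d.act a w) := by
          rw [← act_mul, ← act_mul]
          congr 2
          rw [hj]; group
      _ = _ := by rw [← hd]; abel
  have h4 : d.act k⁻¹ w ∈ d.C := d.inf_Uc hjm h1 (d.mem_Uc.2 (by rw [h3]; exact add_mem h1 (d.C_le _ d.D_le h)))
  have h5 : w ∈ d.C := by
    have := d.act_C hk h4
    rw [act_inv'] at this
    rw [this]
    exact h4
  exact add_mem hu.2 (d.C_le _ d.D_le h5)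

theorem exists_out : ∃ a ∈ d.D, a ∉ d.Q := by
  by_contra hc
  push Not at hc
  have hLQ : d.L ≤ d.Q := d.hL.le.trans (sup_le hc (by
    rintro _ ⟨a, ha, rfl⟩
    exact d.Q_conj (hc a ha) d.hl))
  refine d.hne (AddSubgroup.eq_of_le_of_card_ge ?_ ?_)
  · rintro _ ⟨y, hy, rfl⟩
    obtain ⟨z, hz, e⟩ := (d.mem_Q.1 (hLQ d.hl)).2 1 d.L.one_mem y hy
    rw [act_one, act_one] at e
    show d.act d.l y ∈ d.Φ
    exact e.symm ▸ hz
  · exact (Nat.card_congr (AddSubgroup.equivMapOfInjective _ _ (act_injective d.act d.l)).toEquiv).le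

theorem mem_Q_of_fix {a : H} (haD : a ∈ d.D) (h : ∀ x ∈ d.X, d.act a x = x) : a ∈ d.Q :=
  d.mem_Q.2 ⟨d.D_le haD, fun k hk y hy => ⟨y, hy, h _ (d.map_phi_le_X hk ⟨y, hy, rfl⟩)⟩⟩

/-- `Y` lies between `C` and `X` and is invariant -/
def Mid (Y : AddSubgroup V) : Prop := d.C ≤ Y ∧ Y ≤ d.X ∧ d.Inv Y

theorem card_Uc {k : H} (hk : k ∈ d.L) {Y : AddSubgroup V} (hY : d.Inv Y) :
    Nat.card ↥(Y ⊓ d.Uc k) = Nat.card ↥(Y ⊓ d.U) :=
  Nat.card_congr
    { toFun := fun x => ⟨d.act k⁻¹ x, hY _ (d.L.inv_mem hk) _ x.2.1, d.mem_Uc.1 x.2.2⟩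
      invFun := fun x => ⟨d.act k x, hY _ hk _ x.2.1, d.map_U_le k ⟨_, x.2.2, rfl⟩⟩
      left_inv := fun x => Subtype.ext (act_inv' d.act k x)
      right_inv := fun x => Subtype.ext (act_inv d.act k x) }

theorem card_sup_inf (P Q : AddSubgroup V) :
    Nat.card ↥(P ⊔ Q) * Nat.card ↥(P ⊓ Q) = Nat.card P * Nat.card Q := by
  let f : P × Q →+ ↥(P ⊔ Q) :=
    { toFun := fun q => ⟨(q.1 : V) + q.2, AddSubgroup.add_mem_sup q.1.2 q.2.2⟩
      map_zero' := Subtype.ext (by simp)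
      map_add' := fun q r => Subtype.ext (by simp [add_add_add_comm]) }
  have hf : Function.Surjective f := fun ⟨v, hv⟩ => by
    obtain ⟨u, hu, w, hw, rfl⟩ := AddSubgroup.mem_sup.1 hv
    exact ⟨(⟨u, hu⟩, ⟨w, hw⟩), rfl⟩
  have hk : f.ker ≃ ↥(P ⊓ Q) :=
    { toFun := fun q => ⟨(q.1.1 : V), AddSubgroup.mem_inf.2 ⟨q.1.1.2, by
        have h : (q.1.1 : V) + q.1.2 = 0 := congrArg Subtype.val q.2
        rw [eq_neg_of_add_eq_zero_left h]; exact neg_mem q.1.2.2⟩⟩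
      invFun := fun v => ⟨(⟨v, (AddSubgroup.mem_inf.1 v.2).1⟩, ⟨-(v : V), neg_mem (AddSubgroup.mem_inf.1 v.2).2⟩),
        Subtype.ext (by simp [f])⟩
      left_inv := fun q => by
        have h : (q.1.1 : V) + q.1.2 = 0 := congrArg Subtype.val q.2
        exact Subtype.ext (Prod.ext rfl (Subtype.ext (neg_eq_of_add_eq_zero_right h)))
      right_inv := fun v => rfl }
  rw [← Nat.card_prod P Q, AddSubgroup.card_eq_card_quotient_mul_card_addSubgroup f.ker,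
    Nat.card_congr (QuotientAddGroup.quotientKerEquivOfSurjective f hf).toEquiv, Nat.card_congr hk]

theorem half {k : H} (hk : d.Mv k) {Y : AddSubgroup V} (hY : d.Mid Y) :
    (Y ⊓ d.U) ⊔ (Y ⊓ d.Uc k) = Y ∧ Nat.card Y * Nat.card d.C = Nat.card ↥(Y ⊓ d.U) * Nat.card ↥(Y ⊓ d.U) := by
  obtain ⟨hCY, hYX, hinv⟩ := hY
  obtain ⟨a, haD, haQ⟩ := d.exists_out
  have hint : (Y ⊓ d.U) ⊓ (Y ⊓ d.Uc k) = d.C := le_antisymm (fun x hx => d.inf_Uc hk hx.1.2 hx.2.2)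
    (le_inf (le_inf hCY (d.C_le _ d.D_le)) (le_inf hCY (d.C_le _ (d.conj_le hk.1))))
  have h1 := card_sup_inf (Y ⊓ d.U) (Y ⊓ d.Uc k)
  rw [hint, d.card_Uc hk.1 hinv] at h1
  let g : Y →+ ↥(Y ⊓ d.U) ⧸ d.C.addSubgroupOf (Y ⊓ d.U) := (QuotientAddGroup.mk' _).comp
    { toFun := fun y => ⟨d.act a y - y, Y.sub_mem (hinv a (d.D_le haD) _ y.2) y.2, d.quad a haD y⟩
      map_zero' := Subtype.ext (by simp)
      map_add' := fun y z => Subtype.ext (by simp [add_sub_add_comm]) }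
  have hCU : d.C ≤ Y ⊓ d.U := le_inf hCY (d.C_le _ d.D_le)
  have hcC : Nat.card (d.C.addSubgroupOf (Y ⊓ d.U)) = Nat.card d.C :=
    Nat.card_congr (AddSubgroup.addSubgroupOfEquivOfLe hCU).toEquiv
  have h2 : Nat.card Y * Nat.card d.C ≤ Nat.card ↥(Y ⊓ d.U) * Nat.card ↥(Y ⊓ d.U) := by
    rw [AddSubgroup.card_eq_card_quotient_mul_card_addSubgroup g.ker,
      AddSubgroup.card_eq_card_quotient_mul_card_addSubgroup (d.C.addSubgroupOf (Y ⊓ d.U)),
      hcC]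
    calc Nat.card (Y ⧸ g.ker) * Nat.card g.ker * Nat.card d.C
        ≤ Nat.card (↥(Y ⊓ d.U) ⧸ d.C.addSubgroupOf (Y ⊓ d.U)) * Nat.card ↥(Y ⊓ d.U) * Nat.card d.C := by
          refine Nat.mul_le_mul_right _ (Nat.mul_le_mul ?_ ?_)
          · exact (Nat.card_congr (QuotientAddGroup.quotientKerEquivRange g).toEquiv).trans_le
              (Nat.card_le_card_of_injective _ Subtype.val_injective)
          · refine Nat.card_le_card_of_injective (fun y => (⟨(y.1 : V), y.1.2, ?_⟩ : ↥(Y ⊓ d.U))) ?_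
            · have h := y.2
              rw [AddMonoidHom.mem_ker] at h
              exact d.free haD haQ (hYX y.1.2) (AddSubgroup.mem_addSubgroupOf.1 ((QuotientAddGroup.eq_zero_iff _).1 h))
            · exact fun y z h => Subtype.ext (Subtype.ext (congrArg Subtype.val h :))
      _ = _ := by
          rw [AddSubgroup.card_eq_card_quotient_mul_card_addSubgroup (d.C.addSubgroupOf (Y ⊓ d.U)), hcC]
          ring
  have hsup : (Y ⊓ d.U) ⊔ (Y ⊓ d.Uc k) = Y := by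
    refine AddSubgroup.eq_of_le_of_card_ge (sup_le inf_le_left inf_le_left) ?_
    exact Nat.le_of_mul_le_mul_right (h2.trans h1.ge) Nat.card_pos
  rw [hsup] at h1
  exact ⟨hsup, h1⟩

/-- `(e w - w)` stays outside -/
theorem moved {k : H} (hk : d.Mv k) {Y Y' : AddSubgroup V} (hY : d.Mid Y) (hY' : d.Mid Y') {e : H} (heD : e ∈ d.D)
    (he : e ∉ d.Q) {w : V} (hwY' : w ∈ Y') (hwk : w ∈ d.Uc k) (h : d.act e w - w ∈ Y) : w ∈ Y := by
  let g : ↥(Y ⊓ d.Uc k) ⧸ d.C.addSubgroupOf (Y ⊓ d.Uc k) → ↥(Y ⊓ d.U) ⧸ d.C.addSubgroupOf (Y ⊓ d.U) := fun x =>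
    QuotientAddGroup.mk ⟨d.act e x.out - x.out, Y.sub_mem (hY.2.2 e (d.D_le heD) _ x.out.2.1) x.out.2.1, d.quad e heD _⟩
  have hcard : Nat.card (↥(Y ⊓ d.Uc k) ⧸ d.C.addSubgroupOf (Y ⊓ d.Uc k)) =
      Nat.card (↥(Y ⊓ d.U) ⧸ d.C.addSubgroupOf (Y ⊓ d.U)) := by
    refine Nat.eq_of_mul_eq_mul_right (m := Nat.card d.C) Nat.card_pos ?_
    have e1 := AddSubgroup.card_eq_card_quotient_mul_card_addSubgroup (d.C.addSubgroupOf (Y ⊓ d.Uc k))
    have e2 := AddSubgroup.card_eq_card_quotient_mul_card_addSubgroup (d.C.addSubgroupOf (Y ⊓ d.U))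
    have hk1 : d.C ≤ Y ⊓ d.Uc k := le_inf hY.1 (d.C_le _ (d.conj_le hk.1))
    have hk2 : d.C ≤ Y ⊓ d.U := le_inf hY.1 (d.C_le _ d.D_le)
    rw [Nat.card_congr (AddSubgroup.addSubgroupOfEquivOfLe hk1).toEquiv] at e1
    rw [Nat.card_congr (AddSubgroup.addSubgroupOfEquivOfLe hk2).toEquiv] at e2
    rw [← e1, ← e2, d.card_Uc hk.1 hY.2.2]
  have hinj : Function.Injective g := by
    intro x x' hxx
    rw [← QuotientAddGroup.out_eq' x, ← QuotientAddGroup.out_eq' x', QuotientAddGroup.eq, AddSubgroup.mem_addSubgroupOf]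
    have hc := AddSubgroup.mem_addSubgroupOf.1 (QuotientAddGroup.eq.1 hxx)
    simp only [AddSubgroup.coe_add, AddSubgroup.coe_neg] at hc ⊢
    refine d.inf_Uc hk (d.free heD he (hY.2.1 (add_mem (neg_mem x.out.2.1) x'.out.2.1)) ?_)
      (add_mem (neg_mem x.out.2.2) x'.out.2.2)
    rw [map_add, map_neg]
    convert hc using 1
    abel
  haveI := Fintype.ofFinite (↥(Y ⊓ d.Uc k) ⧸ d.C.addSubgroupOf (Y ⊓ d.Uc k))
  haveI := Fintype.ofFinite (↥(Y ⊓ d.U) ⧸ d.C.addSubgroupOf (Y ⊓ d.U))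
  obtain ⟨x, hx⟩ := ((Fintype.bijective_iff_injective_and_card g).2 ⟨hinj, by
    rw [← Nat.card_eq_fintype_card, ← Nat.card_eq_fintype_card, hcard]⟩).2
      (QuotientAddGroup.mk ⟨d.act e w - w, h, d.quad e heD w⟩)
  have hc := AddSubgroup.mem_addSubgroupOf.1 (QuotientAddGroup.eq.1 hx)
  simp only [AddSubgroup.coe_add, AddSubgroup.coe_neg] at hc
  have h1 : w - x.out ∈ d.C := d.inf_Uc hk
    (d.free heD he (sub_mem (hY'.2.1 hwY') (hY.2.1 x.out.2.1)) (by rw [map_sub]; convert hc using 1; abel))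
    (sub_mem hwk x.out.2.2)
  rw [← sub_add_cancel w (x.out : V)]
  exact add_mem (hY.1 h1) x.out.2.1

theorem exists_outside {k : H} (hk : d.Mv k) {Y Y' : AddSubgroup V} (hY : d.Mid Y) (hY' : d.Mid Y') (hlt : Y < Y') :
    (∃ w ∈ Y', w ∈ d.Uc k ∧ w ∉ Y) ∧ ∃ u ∈ Y', u ∈ d.U ∧ u ∉ Y := by
  constructor <;> by_contra hcon <;> push Not at hcon
  all_goals refine hlt.ne (AddSubgroup.eq_of_le_of_card_ge hlt.le ?_)
  all_goals refine Nat.le_of_mul_le_mul_right ?_ (Nat.card_pos (α := d.C))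
  all_goals rw [(d.half hk hY).2, (d.half hk hY').2]
  · have h1 : Nat.card ↥(Y' ⊓ d.U) ≤ Nat.card ↥(Y ⊓ d.U) := by
      rw [← d.card_Uc hk.1 hY'.2.2, ← d.card_Uc hk.1 hY.2.2]
      exact AddSubgroup.card_le_of_le fun x hx => ⟨hcon x hx.1 hx.2, hx.2⟩
    exact Nat.mul_le_mul h1 h1
  · have h1 : Nat.card ↥(Y' ⊓ d.U) ≤ Nat.card ↥(Y ⊓ d.U) :=
      AddSubgroup.card_le_of_le fun x hx => ⟨hcon x hx.1 hx.2, hx.2⟩
    exact Nat.mul_le_mul h1 h1

variable [Finite H]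

/-- the index of the elements fixing all labels -/
noncomputable def n : ℕ := Nat.card (d.D ⧸ d.Q.subgroupOf d.D)

theorem big (hfree : ¬ Cfsg.Involves (Equiv.Perm (Fin 3)) H) {Y Y' : AddSubgroup V} (hY : d.Mid Y) (hY' : d.Mid Y')
    (hlt : Y < Y') : (d.n * d.n + 1) * Nat.card Y ≤ Nat.card Y' := by
  obtain ⟨_, ⟨u, huY', huU, huY⟩⟩ := d.exists_outside d.mv_l hY hY' hlt
  obtain ⟨a₀, ha₀D, ha₀Q⟩ := d.exists_out
  obtain ⟨b, hb⟩ : ∃ b, b = d.l * a₀ * d.l⁻¹ := ⟨_, rfl⟩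
  have hbL : b ∈ d.L := hb ▸ d.conj_le d.hl ⟨a₀, ha₀D, rfl⟩
  obtain ⟨w, hw⟩ : ∃ w, w = d.act b u - u := ⟨_, rfl⟩
  have hwY' : w ∈ Y' := hw ▸ sub_mem (hY'.2.2 b hbL u huY') huY'
  have hwk : w ∈ d.Uc d.l := by
    rw [hw, hb, d.mem_Uc, map_sub, act_mul, act_mul, act_inv]
    exact d.quad a₀ ha₀D _
  have hml : d.Mv d.l⁻¹ := by
    refine ⟨d.L.inv_mem d.hl, fun e => d.hne ?_⟩
    have h1 := congrArg (AddSubgroup.map (d.act d.l)) e
    refine h1.symm.trans (AddSubgroup.ext fun x => ⟨?_, fun hx => ⟨_, ⟨x, hx, rfl⟩, act_inv' d.act d.l x⟩⟩)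
    rintro ⟨_, ⟨y, hy, rfl⟩, rfl⟩
    exact (act_inv' d.act d.l y).symm ▸ hy
  have hwY : w ∉ Y := by
    intro hwY
    refine huY ?_
    have h1 : d.act d.l⁻¹ u ∈ Y := by
      refine d.moved hml hY hY' ha₀D ha₀Q (hY'.2.2 _ (d.L.inv_mem d.hl) u huY') ?_ ?_
      · rw [d.mem_Uc, inv_inv, act_inv']; exact huU
      · have := hY.2.2 _ (d.L.inv_mem d.hl) w hwY
        rwa [hw, hb, map_sub, act_mul, act_mul, act_inv] at this
    simpa [act_inv'] using hY.2.2 _ d.hl _ h1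
  -- independence
  let g : d.D ⧸ d.Q.subgroupOf d.D → ↥(Y' ⊓ d.U) ⧸ (Y ⊓ d.U).addSubgroupOf (Y' ⊓ d.U) := fun x =>
    QuotientAddGroup.mk ⟨d.act x.out w - w, Y'.sub_mem (hY'.2.2 _ (d.D_le x.out.2) w hwY') hwY', d.quad _ x.out.2 w⟩
  have hinj : Function.Injective g := by
    intro x x' hxx
    rw [← QuotientGroup.out_eq' x, ← QuotientGroup.out_eq' x', QuotientGroup.eq, Subgroup.mem_subgroupOf]
    by_contra hout
    have hc := (AddSubgroup.mem_addSubgroupOf.1 (QuotientAddGroup.eq.1 hxx)).1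
    simp only [AddSubgroup.coe_add, AddSubgroup.coe_neg] at hc
    refine hwY (d.moved d.mv_l hY hY' (mul_mem (inv_mem x.out.2) x'.out.2) hout hwY' hwk ?_)
    rw [d.quad.add (inv_mem x.out.2) x'.out.2]
    have hinv : d.act ((x.out : H))⁻¹ w - w = -(d.act (x.out : H) w - w) := by
      have := d.quad.add (inv_mem x.out.2) x.out.2 w
      rw [inv_mul_cancel, act_one, sub_self] at this
      exact eq_neg_of_add_eq_zero_left this.symm
    rw [hinv]
    exact hc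
  have hle := Nat.card_le_card_of_injective g hinj
  have hcard : Nat.card (↥(Y' ⊓ d.U) ⧸ (Y ⊓ d.U).addSubgroupOf (Y' ⊓ d.U)) * Nat.card ↥(Y ⊓ d.U) = Nat.card ↥(Y' ⊓ d.U) := by
    rw [AddSubgroup.card_eq_card_quotient_mul_card_addSubgroup ((Y ⊓ d.U).addSubgroupOf (Y' ⊓ d.U)),
      Nat.card_congr (AddSubgroup.addSubgroupOfEquivOfLe (inf_le_inf_right d.U hlt.le)).toEquiv]
  -- surjectivity would give a section `S₃`
  have hne : d.n ≠ Nat.card (↥(Y' ⊓ d.U) ⧸ (Y ⊓ d.U).addSubgroupOf (Y' ⊓ d.U)) := by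
    intro heq
    haveI := Fintype.ofFinite (d.D ⧸ d.Q.subgroupOf d.D)
    haveI := Fintype.ofFinite (↥(Y' ⊓ d.U) ⧸ (Y ⊓ d.U).addSubgroupOf (Y' ⊓ d.U))
    obtain ⟨x, hx⟩ := ((Fintype.bijective_iff_injective_and_card g).2 ⟨hinj, by
      rw [← Nat.card_eq_fintype_card, ← Nat.card_eq_fintype_card]; exact heq⟩).2
        (QuotientAddGroup.mk ⟨u, huY', huU⟩)
    obtain ⟨a, haD, hau⟩ : ∃ a ∈ d.D, -(d.act a w - w) + u ∈ Y := by
      refine ⟨x.out, x.out.2, ?_⟩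
      have hc := (AddSubgroup.mem_addSubgroupOf.1 (QuotientAddGroup.eq.1 hx)).1
      simpa using hc
    have haL := d.D_le haD
    obtain ⟨P, hP⟩ : ∃ P, P = Y ⊔ AddSubgroup.closure {u, w} := ⟨_, rfl⟩
    have huP : u ∈ P := hP ▸ AddSubgroup.mem_sup_right (AddSubgroup.subset_closure (Set.mem_insert _ _))
    have hwP : w ∈ P := hP ▸ AddSubgroup.mem_sup_right (AddSubgroup.subset_closure (Set.mem_insert_of_mem _ rfl))
    have hYP : Y ≤ P := hP ▸ le_sup_left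
    obtain ⟨K, hK⟩ : ∃ K : Subgroup H, K = d.L ⊓ stabY d.act P := ⟨_, rfl⟩
    have hPle : ∀ g ∈ d.L, d.act g u ∈ P → d.act g w ∈ P → g ∈ K := by
      intro g hg h1 h2
      refine hK ▸ ⟨hg, ?_⟩
      show P ≤ P.comap (d.act g)
      conv_lhs => rw [hP]
      refine sup_le (fun y hy => hYP (hY.2.2 g hg y hy)) ((AddSubgroup.closure_le _).2 ?_)
      rintro _ (rfl | rfl)
      exacts [h1, h2]
    have hbu : d.act b u = u + w := by rw [hw]; abel
    have hbw : d.act b w = w := by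
      rw [hb]
      exact hwk _ ⟨a₀, ha₀D, rfl⟩
    have haK : a ∈ K := hPle a haL (by rw [huU a haD]; exact huP) (by
      have : d.act a w = w + u - (-(d.act a w - w) + u) := by abel
      rw [this]
      exact sub_mem (add_mem hwP huP) (hYP hau))
    have hbK : b ∈ K := hPle b hbL (by rw [hbu]; exact add_mem huP hwP) (by rw [hbw]; exact hwP)
    obtain ⟨σ, hσ⟩ : ∃ σ : K →* AddMonoid.End (P ⧸ Y.addSubgroupOf P), ∀ (g : K) (p : P),
        σ g (QuotientAddGroup.mk p) =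
          QuotientAddGroup.mk ⟨d.act g p, (hK ▸ g.2 : (g : H) ∈ d.L ⊓ stabY d.act P).2 p p.2⟩ := by
      refine ⟨{ toFun := fun g => QuotientAddGroup.map _ _
                  (restrict d.act K P (fun g hg => (hK ▸ hg : g ∈ d.L ⊓ stabY d.act P).2) g) fun y hy => ?_
                map_one' := QuotientAddGroup.addMonoidHom_ext _ (AddMonoidHom.ext fun p =>
                  congrArg QuotientAddGroup.mk (Subtype.ext (act_one d.act (p : V))))
                map_mul' := fun g g' => QuotientAddGroup.addMonoidHom_ext _ (AddMonoidHom.ext fun p =>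
                  congrArg QuotientAddGroup.mk (Subtype.ext (act_mul d.act (g : H) g' (p : V)))) }, fun g p => rfl⟩
      exact hY.2.2 g (hK ▸ g.2 : (g : H) ∈ d.L ⊓ stabY d.act P).1 _ hy
    have hsq : ∀ e ∈ d.D, ∀ x, d.act e (d.act e x) = x := by
      intro e he x
      have h := d.quad e he x e he
      rw [map_sub, sub_eq_iff_eq_add] at h
      rw [h, sub_add_eq_add_sub, d.h2, zero_sub]
      exact neg_eq_of_add_eq_zero_left (d.h2 x)
    have hext : ∀ g : K, (∀ p : P, σ g (QuotientAddGroup.mk p) = QuotientAddGroup.mk p) → σ g = 1 := fun g h =>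
      QuotientAddGroup.addMonoidHom_ext _ (AddMonoidHom.ext fun p => h p)
    let I := σ.toHomUnits.range
    let α : I := ⟨σ.toHomUnits ⟨a, haK⟩, ⟨_, rfl⟩⟩
    let β : I := ⟨σ.toHomUnits ⟨b, hbK⟩, ⟨_, rfl⟩⟩
    have hα : α * α = 1 := Subtype.ext (Units.ext (by
      show σ ⟨a, haK⟩ * σ ⟨a, haK⟩ = 1
      rw [← map_mul]
      exact hext _ fun p => (hσ _ p).trans (congrArg QuotientAddGroup.mk (Subtype.ext (by
        show d.act (a * a) (p : V) = p
        rw [act_mul, hsq a haD])))))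
    have hβ : β * β = 1 := Subtype.ext (Units.ext (by
      show σ ⟨b, hbK⟩ * σ ⟨b, hbK⟩ = 1
      rw [← map_mul]
      exact hext _ fun p => (hσ _ p).trans (congrArg QuotientAddGroup.mk (Subtype.ext (by
        show d.act (b * b) (p : V) = p
        rw [hb, show d.l * a₀ * d.l⁻¹ * (d.l * a₀ * d.l⁻¹) = d.l * (a₀ * a₀) * d.l⁻¹ by group, act_mul, act_mul,
          act_mul, hsq a₀ ha₀D, act_inv'])))))
    let q := σ ⟨a, haK⟩ * σ ⟨b, hbK⟩
    let uu : P ⧸ Y.addSubgroupOf P := QuotientAddGroup.mk ⟨u, huP⟩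
    let ww : P ⧸ Y.addSubgroupOf P := QuotientAddGroup.mk ⟨w, hwP⟩
    have ha1 : σ ⟨a, haK⟩ uu = uu := (hσ _ _).trans (congrArg QuotientAddGroup.mk (Subtype.ext (huU a haD)))
    have hb2 : σ ⟨b, hbK⟩ ww = ww := (hσ _ _).trans (congrArg QuotientAddGroup.mk (Subtype.ext hbw))
    have hb1 : σ ⟨b, hbK⟩ uu = uu + ww := (hσ _ _).trans (congrArg QuotientAddGroup.mk (Subtype.ext hbu))
    have ha2 : σ ⟨a, haK⟩ ww = uu + ww := (hσ _ _).trans (QuotientAddGroup.eq.2 (AddSubgroup.mem_addSubgroupOf.2 (by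
      simp only [AddSubgroup.coe_add, AddSubgroup.coe_neg]
      convert hau using 1
      abel)))
    have h2q : ∀ z : P ⧸ Y.addSubgroupOf P, z + z = 0 := fun z => by
      obtain ⟨p, rfl⟩ := QuotientAddGroup.mk_surjective z
      rw [← QuotientAddGroup.mk_add, ← QuotientAddGroup.mk_zero]
      exact congrArg QuotientAddGroup.mk (Subtype.ext (d.h2 p))
    have hqu : q uu = ww := by
      show σ ⟨a, haK⟩ (σ ⟨b, hbK⟩ uu) = ww
      rw [hb1, map_add, ha1, ha2, ← add_assoc, h2q, zero_add]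
    have hqw : q ww = uu + ww := by
      show σ ⟨a, haK⟩ (σ ⟨b, hbK⟩ ww) = uu + ww
      rw [hb2, ha2]
    have hgen3 : ∀ z : P ⧸ Y.addSubgroupOf P, q (q (q z)) = z := by
      intro z
      obtain ⟨⟨p, hp⟩, rfl⟩ := QuotientAddGroup.mk_surjective z
      obtain ⟨y, hy, c, hc, rfl⟩ := AddSubgroup.mem_sup.1 (hP ▸ hp : p ∈ Y ⊔ AddSubgroup.closure {u, w})
      have hcP : c ∈ P := hP ▸ AddSubgroup.mem_sup_right hc
      have hzero : QuotientAddGroup.mk (s := Y.addSubgroupOf P) (⟨y + c, hp⟩ : P) = QuotientAddGroup.mk ⟨c, hcP⟩ :=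
        QuotientAddGroup.eq.2 (AddSubgroup.mem_addSubgroupOf.2 (by simpa using hy))
      rw [hzero]
      clear hzero hp hy y
      induction hc using AddSubgroup.closure_induction with
      | mem x hx =>
        have hq2 : ww + (uu + ww) = uu := by rw [add_comm uu, ← add_assoc, h2q, zero_add]
        rcases hx with rfl | rfl
        · show q (q (q uu)) = uu
          rw [hqu, hqw, map_add, hqu, hqw, hq2]
        · show q (q (q ww)) = ww
          rw [hqw, map_add, hqu, hqw, hq2, hqu]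
      | zero => exact (congrArg (fun t => q (q t)) (map_zero q)).trans ((congrArg q (map_zero q)).trans (map_zero q))
      | add x x' hx hx' ih ih' =>
        have hxP : x ∈ P := hP ▸ AddSubgroup.mem_sup_right hx
        have hxP' : x' ∈ P := hP ▸ AddSubgroup.mem_sup_right hx'
        show q (q (q (QuotientAddGroup.mk (⟨x, hxP⟩ + ⟨x', hxP'⟩)))) = QuotientAddGroup.mk (⟨x, hxP⟩ + ⟨x', hxP'⟩)
        rw [QuotientAddGroup.mk_add, map_add, map_add, map_add, ih hxP, ih' hxP']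
      | neg x hx ih =>
        have hxP : x ∈ P := hP ▸ AddSubgroup.mem_sup_right hx
        show q (q (q (QuotientAddGroup.mk (-⟨x, hxP⟩)))) = QuotientAddGroup.mk (-⟨x, hxP⟩)
        rw [QuotientAddGroup.mk_neg, map_neg, map_neg, map_neg, ih hxP]
    haveI : Finite I := Finite.of_surjective σ.toHomUnits.rangeRestrict σ.toHomUnits.rangeRestrict_surjective
    have hI : Cfsg.Involves (Equiv.Perm (Fin 3)) I := by
      refine CfsgLib.LocalEven.SFreeOffender.involves_three_of_inverted (a := α) (y := α * β) hα ?_ ?_ ?_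
      · rw [inv_eq_of_mul_eq_one_right hα, ← mul_assoc, hα, one_mul, mul_inv_rev, inv_eq_of_mul_eq_one_right hα,
          inv_eq_of_mul_eq_one_right hβ]
      · refine Subtype.ext (Units.ext (AddMonoidHom.ext fun z => ?_))
        rw [pow_succ, pow_two]
        exact hgen3 z
      · intro h
        have h1 : q uu = uu := by
          have := congrArg (fun i : I => ((i : (AddMonoid.End (P ⧸ Y.addSubgroupOf P))ˣ) :
            AddMonoid.End (P ⧸ Y.addSubgroupOf P))) h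
          exact DFunLike.congr_fun this uu
        rw [hqu] at h1
        have h3 : -w + u ∈ Y := AddSubgroup.mem_addSubgroupOf.1 (QuotientAddGroup.eq.1 h1)
        rw [← (d.half d.mv_l hY).1] at h3
        obtain ⟨u₁, hu₁, w₁, hw₁, he⟩ := AddSubgroup.mem_sup.1 h3
        have h4 : u - u₁ ∈ d.C := by
          refine d.inf_Uc d.mv_l (sub_mem huU hu₁.2) ?_
          have : u - u₁ = w + w₁ := by
            calc u - u₁ = (-w + u) - u₁ + w := by abel
              _ = _ := by rw [← he]; abel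
          rw [this]
          exact add_mem hwk hw₁.2
        refine huY ?_
        rw [← sub_add_cancel u u₁]
        exact add_mem (hY.1 h4) hu₁.1
    exact hfree (CfsgLib.LocalEven.involves_of_section K.subtype K.subtype_injective σ.toHomUnits.rangeRestrict
      σ.toHomUnits.rangeRestrict_surjective hI)
  obtain ⟨r, hr⟩ : ∃ r, Nat.card Y' = r * Nat.card Y := ⟨_, by
    rw [AddSubgroup.card_eq_card_quotient_mul_card_addSubgroup (Y.addSubgroupOf Y'),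
      Nat.card_congr (AddSubgroup.addSubgroupOfEquivOfLe hlt.le).toEquiv]⟩
  obtain ⟨s, hs⟩ : ∃ s, s = Nat.card (↥(Y' ⊓ d.U) ⧸ (Y ⊓ d.U).addSubgroupOf (Y' ⊓ d.U)) := ⟨_, rfl⟩
  rw [← hs] at hcard hne
  have hns : d.n < s := lt_of_le_of_ne (hs ▸ hle) hne
  have hrs : r = s * s := by
    refine Nat.eq_of_mul_eq_mul_right (m := Nat.card Y * Nat.card d.C) (Nat.mul_pos Nat.card_pos Nat.card_pos) ?_
    rw [← mul_assoc, ← hr, (d.half d.mv_l hY').2, (d.half d.mv_l hY).2, ← hcard]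
    ring
  rw [hr, hrs]
  exact Nat.mul_le_mul_right _ (Nat.succ_le_of_lt (Nat.mul_lt_mul'' hns hns))

end Loc

end CfsgLib.PGroups.SFree
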